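import Mathlib

set_option autoImplicit false
set_option linter.unusedSectionVars false
set_option linter.unusedVariables false

/-!
# S2263, existence side: definitions

* `SC q A`: the invertible matrix `A` is conjugate to the inverse transpose of its entrywise `q`-th power
  (by S2588 / Wall, exactly the matrices conjugate into `GU_n(q)` when `|K| = q²`).
* `SP B`: a power of `B` which is scalar is the identity (`B ^ j = μ • 1 → μ = 1`).
-/

namespace Cfsg.Agent.Helper94.Pu

variable {K : Type*} [Field K]

/-- invertible and conjugate to its conjugate inverse transpose -/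
def SC (q : ℕ) {ι : Type*} [Fintype ι] [DecidableEq ι] (A : Matrix ι ι K) : Prop :=
  A.det ≠ 0 ∧ IsConj A ((A.map (fun x : K => x ^ q)).transpose)⁻¹

/-- scalar powers are trivial -/
def SP {ι : Type*} [Fintype ι] [DecidableEq ι] (B : Matrix ι ι K) : Prop :=
  ∀ (j : ℕ) (μ : K), B ^ j = μ • (1 : Matrix ι ι K) → μ = 1

end Cfsg.Agent.Helper94.Pu
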