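import Mathlib
import Cfsg.Prelude.Def_LieClassical
import Cfsg.Agent.Helper94.Pu.ExDefs
import Cfsg.Agent.S2588
import Cfsg.Agent.Helper38.SU3Gen

set_option autoImplicit false
set_option linter.unusedSectionVars false
set_option linter.unusedVariables false

/-!
# (EX1) an `SC` matrix indexed by `ι ≃ Fin n` gives an element of `GU_n(q)` with the same scalar powers

MODEL (verbatim, minus the determinant bookkeeping): `Cfsg.Agent.Helper38.exists_su_of_isConj` in
`Cfsg/Agent/Helper38/SU3Gen.lean` and its reindexed form `exists_su_of_isConj_equiv` in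
`Cfsg/Agent/Helper38/UnitaryTorus.lean` (both on main; `pow_eq_smul_one_conj` there).
Reindex `A` along `e` (`Matrix.reindexAlgEquiv K K e`), make it a `GL` element
(`Matrix.GeneralLinearGroup.mkOfDetNeZero`), apply `Cfsg.Agent.S2588.result hK A' : (∃ B : GU, IsConj A' B) ↔ IsConj (A' : Matrix) (..)⁻¹`,
get `c` with `c * A = B * c`, hence `B ^ j = μ • 1 ↔ A ^ j = μ • 1`.
-/

namespace Cfsg.Agent.Helper94.Pu

open Matrix

variable {K : Type*} [Field K] [Fintype K]

theorem exists_gu_of_SC {q n : ℕ} (hK : Fintype.card K = q ^ 2) {ι : Type*} [Fintype ι]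
    [DecidableEq ι] (e : ι ≃ Fin n) (A : Matrix ι ι K) (hA : SC q A) :
    ∃ X : ↥(Cfsg.GU n K q), ∀ (j : ℕ) (μ : K),
      ((X : GL (Fin n) K) : Matrix (Fin n) (Fin n) K) ^ j = μ • (1 : Matrix (Fin n) (Fin n) K) ↔
        A ^ j = μ • (1 : Matrix ι ι K) := by
  classical
  obtain ⟨hdet0, hconj⟩ := hA
  let φ : Matrix ι ι K ≃ₐ[K] Matrix (Fin n) (Fin n) K := Matrix.reindexAlgEquiv K K e
  have hφ : ∀ M, φ M = M.submatrix e.symm e.symm := fun M => rfl
  have hdet' : (φ A).det ≠ 0 := by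
    rw [Matrix.det_reindexAlgEquiv]
    exact hdet0
  have hB : φ ((A.map (fun x : K => x ^ q)).transpose)⁻¹ =
      (((φ A).map (fun x : K => x ^ q)).transpose)⁻¹ := by
    rw [hφ, hφ, ← Matrix.submatrix_map, Matrix.transpose_submatrix, Matrix.inv_submatrix_equiv]
  obtain ⟨c, hc⟩ := hconj
  have hconj' : IsConj (φ A) (((φ A).map (fun x : K => x ^ q)).transpose)⁻¹ := by
    refine ⟨Units.map (φ : Matrix ι ι K →* Matrix (Fin n) (Fin n) K) c, ?_⟩
    show φ (c : Matrix ι ι K) * φ A = _ * φ (c : Matrix ι ι K)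
    rw [← hB, ← map_mul, ← map_mul]
    exact congrArg φ hc
  let A' : GL (Fin n) K := Matrix.GeneralLinearGroup.mkOfDetNeZero (φ A) hdet'
  have hA' : (A' : Matrix (Fin n) (Fin n) K) = φ A := rfl
  obtain ⟨B, hBc⟩ := (Cfsg.Agent.S2588.result hK A').2 (by rw [hA']; exact hconj')
  obtain ⟨d, hd⟩ := isConj_iff.1 hBc
  have hd' : (d : Matrix (Fin n) (Fin n) K) * φ A =
      ((B : GL (Fin n) K) : Matrix (Fin n) (Fin n) K) * d := by
    have h1 : d * A' = (B : GL (Fin n) K) * d := by rw [← hd]; group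
    have := congrArg (fun x : GL (Fin n) K => (x : Matrix (Fin n) (Fin n) K)) h1
    simp only [Units.val_mul] at this
    rw [hA'] at this
    exact this
  refine ⟨B, fun j μ => ?_⟩
  rw [Cfsg.Agent.Helper38.pow_eq_smul_one_conj d (φ A) _ hd' j μ, ← map_pow]
  constructor
  · intro h
    apply φ.injective
    rw [h, map_smul, map_one]
  · intro h
    rw [h, map_smul, map_one]

end Cfsg.Agent.Helper94.Pu
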