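import Mathlib
import Cfsg.Prelude.Def_LieClassical
import Cfsg.Agent.Helper45.SUBasic

set_option autoImplicit false
set_option linter.unusedSectionVars false
set_option linter.unusedVariables false

/-!
# (EX3) the order of the image in `PGU_n(q) = GU_n(q) / Z` from the scalar powers

`X ^ j ∈ Z(GU_n(q)) ↔ X ^ j` is a scalar matrix: `→` is `Cfsg.Agent.Helper45.GU.center_scalar n bar hbar hn u hu hu1 z hz`
(`Helper45/GUBasic.lean`; it needs some `u ∈ U1 K q`, `u ≠ 1`: `Cfsg.Agent.Helper45.GU.card_U1 hK : Nat.card (U1 K q) = q + 1 ≥ 2`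
in `Helper45/SUBasic.lean`; `bar` from `Cfsg.Agent.Helper45.GU.exists_bar hK`; `diagonal (fun _ => l) = l • 1`), `←` because a
scalar matrix commutes with everything (`Subgroup.mem_center_iff`, `Subtype.ext`, `Units.ext`, `smul_mul_assoc`...).
So `(mk X) ^ j = 1 ↔ N ∣ j` (`QuotientGroup.eq_one_iff`, `QuotientGroup.mk_pow`), hence `orderOf (mk X) ∣ N`
(`orderOf_dvd_of_pow_eq_one`) and `N ∣ orderOf (mk X)` (`pow_orderOf_eq_one`): `Nat.dvd_antisymm`.
-/

namespace Cfsg.Agent.Helper94.Pu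

open Matrix

variable {K : Type*} [Field K] [Fintype K]

theorem mem_center_GU_iff {q n : ℕ} (hK : Fintype.card K = q ^ 2) (hn : 1 ≤ n)
    (Y : ↥(Cfsg.GU n K q)) :
    Y ∈ Subgroup.center ↥(Cfsg.GU n K q) ↔
      ∃ μ : K, ((Y : GL (Fin n) K) : Matrix (Fin n) (Fin n) K) = μ • (1 : Matrix (Fin n) (Fin n) K) := by
  constructor
  · intro hY
    obtain ⟨bar, hbar⟩ := Cfsg.Agent.Helper45.GU.exists_bar hK
    have hcard : 1 < Nat.card (Cfsg.Agent.Helper45.GU.U1 K q) := by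
      rw [Cfsg.Agent.Helper45.GU.card_U1 hK]
      have hq : q ≠ 0 := by
        rintro rfl
        have := Fintype.card_pos (α := K)
        rw [hK] at this
        simp at this
      omega
    obtain ⟨u, hu1⟩ := (Subgroup.ne_bot_iff_exists_ne_one).mp
      ((Subgroup.one_lt_card_iff_ne_bot _).mp hcard)
    have hu1' : (u : Kˣ) ≠ 1 := fun h => hu1 (Subtype.ext h)
    obtain ⟨l, -, hl⟩ := Cfsg.Agent.Helper45.GU.center_scalar n bar hbar hn (u : Kˣ) u.2 hu1' Y hY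
    exact ⟨(l : K), by rw [hl, Matrix.smul_one_eq_diagonal]⟩
  · rintro ⟨μ, hμ⟩
    rw [Subgroup.mem_center_iff]
    intro g
    apply Subtype.ext
    apply Units.ext
    show ((g : GL (Fin n) K) : Matrix (Fin n) (Fin n) K) * ((Y : GL (Fin n) K) : Matrix (Fin n) (Fin n) K)
      = ((Y : GL (Fin n) K) : Matrix (Fin n) (Fin n) K) * ((g : GL (Fin n) K) : Matrix (Fin n) (Fin n) K)
    rw [hμ, Matrix.mul_smul, Matrix.smul_mul, Matrix.mul_one, Matrix.one_mul]

theorem orderOf_mk_eq {q n : ℕ} (hK : Fintype.card K = q ^ 2) (hn : 1 ≤ n) (X : ↥(Cfsg.GU n K q))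
    (N : ℕ)
    (h : ∀ j : ℕ, (∃ μ : K, ((X : GL (Fin n) K) : Matrix (Fin n) (Fin n) K) ^ j =
      μ • (1 : Matrix (Fin n) (Fin n) K)) ↔ N ∣ j) :
    orderOf (QuotientGroup.mk X : ↥(Cfsg.GU n K q) ⧸ Subgroup.center ↥(Cfsg.GU n K q)) = N := by
  have hiff : ∀ j : ℕ,
      (QuotientGroup.mk X : ↥(Cfsg.GU n K q) ⧸ Subgroup.center ↥(Cfsg.GU n K q)) ^ j = 1 ↔ N ∣ j := by
    intro j
    rw [← QuotientGroup.mk_pow, QuotientGroup.eq_one_iff, mem_center_GU_iff hK hn, ← h j,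
      Subgroup.coe_pow, Units.val_pow_eq_pow_val]
  exact Nat.dvd_antisymm (orderOf_dvd_of_pow_eq_one ((hiff N).mpr dvd_rfl))
    ((hiff _).mp (pow_orderOf_eq_one _))

end Cfsg.Agent.Helper94.Pu
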