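import Mathlib

set_option autoImplicit false
set_option linter.unusedSectionVars false
set_option linter.unusedVariables false

/-!
# Largest element order of `PGU_d(q)` (S2263): definitions

`g ∈ GU_d(q) ≤ GL_d(K)`, `|K| = q²`, `q = p ^ f`.  The characteristic polynomial `χ` of `g` is fixed
by the twisted reciprocal `utilde`; it factors into *blocks* `ψ ^ m`, `ψ` either a `utilde`-fixed
irreducible of (odd) degree `n` (type `n`), or `ψ = h * utilde h`, `h ≠ utilde h` irreducible of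
degree `k` (type `n = 2 k`).  A block of type `n` divides `X ^ eN q n - 1`,
`eN q n = q ^ n - (-1) ^ n`.

* `Blocks = List (ℕ × ℕ)`: the list of `(type, multiplicity)`.
* `dimB ℓ = ∑ n * m`, `typesB ℓ` the set of types, `lcmB q ℓ = lcm_{n ∈ typesB ℓ} eN q n`,
  `maxM ℓ` the largest multiplicity, `ppow p ℓ = p ^ clog p (maxM ℓ)`.
* `Mx p f q d`: the claimed maximal order.
-/

namespace Cfsg.Agent.Helper94.Pu

/-- `q ^ n - (-1) ^ n` -/
def eN (q n : ℕ) : ℕ := if Even n then q ^ n - 1 else q ^ n + 1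

/-- the claimed largest element order of `PGU_d(q)`, `q = p ^ f` -/
def Mx (p f q d : ℕ) : ℕ :=
  if Odd d then (if 2 ≤ f then q ^ (d - 1) - 1 else (p ^ (d - 2) + 1) * p)
  else (if 2 < q then q ^ (d - 1) + 1 else 4 * (2 ^ (d - 3) + 1))

/-- list of `(type, multiplicity)` -/
abbrev Blocks := List (ℕ × ℕ)

/-- total dimension -/
def dimB (ℓ : Blocks) : ℕ := (ℓ.map (fun b => b.1 * b.2)).sum

/-- the set of types -/
def typesB (ℓ : Blocks) : Finset ℕ := (ℓ.map Prod.fst).toFinset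

/-- lcm of the `eN q n` over the types -/
def lcmB (q : ℕ) (ℓ : Blocks) : ℕ := (typesB ℓ).lcm (eN q)

/-- the largest multiplicity -/
def maxM (ℓ : Blocks) : ℕ := (ℓ.map Prod.snd).foldr max 0

/-- `p`-part of the exponent -/
def ppow (p : ℕ) (ℓ : Blocks) : ℕ := p ^ Nat.clog p (maxM ℓ)

/-- all types and multiplicities are positive -/
def Good (ℓ : Blocks) : Prop := ∀ b ∈ ℓ, 1 ≤ b.1 ∧ 1 ≤ b.2

@[simp] theorem dimB_nil : dimB [] = 0 := rfl
@[simp] theorem dimB_cons (b : ℕ × ℕ) (ℓ : Blocks) : dimB (b :: ℓ) = b.1 * b.2 + dimB ℓ := by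
  simp [dimB]
@[simp] theorem typesB_nil : typesB [] = ∅ := rfl
@[simp] theorem typesB_cons (b : ℕ × ℕ) (ℓ : Blocks) : typesB (b :: ℓ) = insert b.1 (typesB ℓ) := by
  simp [typesB]
@[simp] theorem lcmB_nil (q : ℕ) : lcmB q [] = 1 := by simp [lcmB]
theorem lcmB_cons (q : ℕ) (b : ℕ × ℕ) (ℓ : Blocks) :
    lcmB q (b :: ℓ) = Nat.lcm (eN q b.1) (lcmB q ℓ) := by
  simp [lcmB, Finset.lcm_insert]
  rfl
@[simp] theorem maxM_nil : maxM [] = 0 := rfl
@[simp] theorem maxM_cons (b : ℕ × ℕ) (ℓ : Blocks) : maxM (b :: ℓ) = max b.2 (maxM ℓ) := rfl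
theorem Good_nil : Good [] := by intro b hb; simp at hb
theorem Good_cons {b : ℕ × ℕ} {ℓ : Blocks} (h1 : 1 ≤ b.1) (h2 : 1 ≤ b.2) (h : Good ℓ) :
    Good (b :: ℓ) := by
  intro c hc
  rcases List.mem_cons.mp hc with rfl | hc
  · exact ⟨h1, h2⟩
  · exact h c hc

theorem eN_pos (q n : ℕ) (hq : 2 ≤ q) (hn : 1 ≤ n) : 0 < eN q n := by
  unfold eN
  split_ifs
  · have : 2 ≤ q ^ n := by
      calc 2 ≤ q := hq
        _ = q ^ 1 := (pow_one q).symm
        _ ≤ q ^ n := Nat.pow_le_pow_right (by omega) hn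
    omega
  · omega

theorem eN_one (q : ℕ) : eN q 1 = q + 1 := by
  unfold eN
  simp

theorem lcmB_pos (q : ℕ) (hq : 2 ≤ q) (ℓ : Blocks) (hg : Good ℓ) : 0 < lcmB q ℓ := by
  unfold lcmB
  rw [Nat.pos_iff_ne_zero]
  intro h
  rw [Finset.lcm_eq_zero_iff] at h
  obtain ⟨n, hn, hn0⟩ := h
  unfold typesB at hn
  rw [List.mem_toFinset, List.mem_map] at hn
  obtain ⟨b, hb, rfl⟩ := hn
  have := eN_pos q b.1 hq (hg b hb).1
  omega

theorem ppow_pos (p : ℕ) (hp : 0 < p) (ℓ : Blocks) : 0 < ppow p ℓ := by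
  unfold ppow
  positivity

end Cfsg.Agent.Helper94.Pu
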