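import Mathlib
import Cfsg.Agent.Helper94.Pu.Defs

set_option autoImplicit false
set_option linter.unusedSectionVars false
set_option linter.unusedVariables false

/-!
# (E1) `q + 1 ∣ eN q n`, monotonicity and size of `eN`

`eN q n = q ^ n - 1` (`n` even) or `q ^ n + 1` (`n` odd).  `q ≡ -1 mod (q + 1)`.
Odd `n`: `Odd.nat_add_dvd_pow_add_pow q 1`.  Even `n = 2 k`: `q ^ (2 k) - 1 = (q ^ 2) ^ k - 1` is
divisible by `q ^ 2 - 1 = (q - 1) * (q + 1)` (`Nat.sub_one_dvd_pow_sub_one`-style / `nat_sub_dvd_pow_sub_pow`).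
-/

namespace Cfsg.Agent.Helper94.Pu

theorem succ_dvd_eN (q n : ℕ) (hn : 1 ≤ n) : q + 1 ∣ eN q n := by
  unfold eN
  split_ifs with he
  · obtain ⟨k, rfl⟩ := he
    have h1 : q ^ (k + k) - 1 = (q ^ 2) ^ k - 1 ^ k := by
      rw [one_pow, ← pow_mul, two_mul]
    rw [h1]
    have h2 : q ^ 2 - 1 ∣ (q ^ 2) ^ k - 1 ^ k := Nat.sub_dvd_pow_sub_pow _ _ _
    have h3 : q + 1 ∣ q ^ 2 - 1 := by
      have : q ^ 2 - 1 = (q + 1) * (q - 1) := by
        have := Nat.sq_sub_sq q 1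
        rw [one_pow] at this
        exact this
      rw [this]
      exact Dvd.intro _ rfl
    exact dvd_trans h3 h2
  · have ho : Odd n := Nat.not_even_iff_odd.mp he
    have := Odd.nat_add_dvd_pow_add_pow q 1 ho
    rwa [one_pow] at this

theorem eN_le (q n : ℕ) : eN q n ≤ q ^ n + 1 := by
  unfold eN
  split_ifs <;> omega

/-- `eN q n / (q + 1) ≤ q ^ (n - 1) - 1` for `n ≥ 2` (indeed `x(n) = q^(n-1) - x(n-1)`, `x(n-1) ≥ 1`):
equivalently `eN q n + (q + 1) ≤ (q + 1) * q ^ (n - 1)`, i.e. `q ^ n + 1 + q + 1 ≤ q ^ n + q ^ (n-1)` when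
`n` is odd (`n ≥ 3`, so `q ^ (n - 1) ≥ q ^ 2 ≥ q + 2`), and `q ^ n - 1 + q + 1 ≤ q ^ n + q ^ (n - 1)`
when `n` is even. -/
theorem eN_div_le (q n : ℕ) (hq : 2 ≤ q) (hn : 2 ≤ n) : eN q n / (q + 1) ≤ q ^ (n - 1) - 1 := by
  apply Nat.div_le_of_le_mul
  obtain ⟨m, rfl⟩ : ∃ m, n = m + 2 := ⟨n - 2, by omega⟩
  have hm1 : m + 2 - 1 = m + 1 := by omega
  rw [hm1]
  have hQ : q ≤ q ^ (m + 1) := by
    calc q = q ^ 1 := (pow_one q).symm
      _ ≤ q ^ (m + 1) := Nat.pow_le_pow_right (by omega) (by omega)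
  obtain ⟨Q', hQ'⟩ : ∃ Q', q ^ (m + 1) = Q' + 1 := ⟨q ^ (m + 1) - 1, by omega⟩
  have hpow : q ^ (m + 2) = q * (Q' + 1) := by rw [← hQ', pow_succ' q (m + 1)]
  rw [hQ', Nat.add_sub_cancel]
  unfold eN
  split_ifs with he
  · rw [hpow]
    have : q * (Q' + 1) - 1 = q * Q' + (q - 1) := by
      rw [mul_add, mul_one]; omega
    rw [this, add_mul, one_mul]
    omega
  · -- `m + 2` odd, so `m ≥ 1`
    have ho : Odd (m + 2) := Nat.not_even_iff_odd.mp he
    have hm : 1 ≤ m := by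
      rcases Nat.eq_zero_or_pos m with h | h
      · subst h; exact absurd ho (by decide)
      · exact h
    have hQ2 : q * q ≤ q ^ (m + 1) := by
      calc q * q = q ^ 2 := (sq q).symm
        _ ≤ q ^ (m + 1) := Nat.pow_le_pow_right (by omega) (by omega)
    have hqq : q + 2 ≤ q * q := by nlinarith
    rw [hpow, add_mul, one_mul, mul_add, mul_one]
    omega

/-- `eN q n / (q + 1) ≤ q ^ (n - 1)` for all `n ≥ 1` -/
theorem eN_div_le' (q n : ℕ) (hq : 2 ≤ q) (hn : 1 ≤ n) : eN q n / (q + 1) ≤ q ^ (n - 1) := by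
  rcases Nat.lt_or_ge n 2 with h | h
  · have h1 : n = 1 := by omega
    subst h1
    rw [eN_one, Nat.div_self (by omega)]
    simp
  · exact le_trans (eN_div_le q n hq h) (Nat.sub_le _ _)

theorem eN_div_pos (q n : ℕ) (hq : 2 ≤ q) (hn : 1 ≤ n) : 0 < eN q n / (q + 1) :=
  Nat.div_pos (Nat.le_of_dvd (eN_pos q n hq hn) (succ_dvd_eN q n hn)) (by omega)

theorem eN_coprime {p f q : ℕ} (hp : p.Prime) (hf : 1 ≤ f) (hq : q = p ^ f) (n : ℕ) (hn : 1 ≤ n) :
    Nat.Coprime (eN q n) p := by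
  apply Nat.Coprime.symm
  rw [Nat.Prime.coprime_iff_not_dvd hp]
  intro hd
  have hpq : p ∣ q ^ n := by
    rw [hq, ← pow_mul]
    exact dvd_pow_self p (by
      have : 1 ≤ f * n := Nat.mul_pos (by omega) (by omega)
      omega)
  have hpos : 1 ≤ q ^ n := by
    have : 0 < q := by rw [hq]; exact pow_pos hp.pos f
    exact Nat.one_le_pow _ _ this
  unfold eN at hd
  split_ifs at hd with he
  · have h1 : p ∣ q ^ n - (q ^ n - 1) := Nat.dvd_sub hpq hd
    have h2 : q ^ n - (q ^ n - 1) = 1 := by omega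
    rw [h2] at h1
    exact hp.one_lt.ne' (Nat.dvd_one.mp h1)
  · have h1 : p ∣ 1 := (Nat.dvd_add_right hpq).mp hd
    exact hp.one_lt.ne' (Nat.dvd_one.mp h1)

end Cfsg.Agent.Helper94.Pu
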