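import Mathlib
import Cfsg.Agent.Helper94.Pu.Defs

set_option autoImplicit false
set_option linter.unusedSectionVars false
set_option linter.unusedVariables false

/-!
# (U0) norm-one elements of an extension of `K = F_{q²}` already lie in `K`

`|K| = q²`, so `Kˣ` is cyclic of order `q² - 1 = (q - 1)(q + 1)` and has exactly `q + 1` elements `μ` with
`μ ^ (q + 1) = 1` (`IsCyclic.card_pow_eq_one_le` / `IsCyclic.card_orderOf_eq_totient`-style, or: the map
`x ↦ x ^ (q - 1)` on `Kˣ` has kernel of size `≤ q - 1` hence image of size `≥ q + 1`, contained in the roots of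
`X ^ (q + 1) - 1`; helper45 has `Cfsg.Agent.Helper45.GU.card_U1 : Nat.card (U1 F q) = q + 1` in
`Cfsg.Agent.Helper45.SUBasic`, which you may import).  Their images under the injective `algebraMap K L` are `q + 1`
distinct roots of `X ^ (q + 1) - 1` in `L`, which has at most `q + 1` roots (`Polynomial.card_roots'`,
`Polynomial.nthRoots`, `card_nthRoots`).  So `x` is one of them.
Alternative: `x ^ (q ^ 2) = x`, and the roots of `X ^ |K| - X` in `L` are the `|K|` images of `K`
(`FiniteField.roots_X_pow_card_sub_X`, `FiniteField.pow_card`).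
-/

namespace Cfsg.Agent.Helper94.Pu

theorem exists_of_pow_succ_eq_one {K : Type*} [Field K] [Fintype K] {q : ℕ}
    (hK : Fintype.card K = q ^ 2) {L : Type*} [Field L] [Algebra K L] (x : L)
    (hx : x ^ (q + 1) = 1) : ∃ μ : K, μ ^ (q + 1) = 1 ∧ algebraMap K L μ = x := by
  classical
  have hN1 : 1 < Fintype.card K := Fintype.one_lt_card
  have hq0 : 0 < q := by
    rcases Nat.eq_zero_or_pos q with h | h
    · rw [h] at hK
      norm_num at hK
    · exact h
  have hinj : Function.Injective (algebraMap K L) := (algebraMap K L).injective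
  -- `x ^ |K| = x`
  have hxN : x ^ Fintype.card K = x := by
    have h1 : q ^ 2 = (q + 1) * (q - 1) + 1 := by
      obtain ⟨r, rfl⟩ : ∃ r, q = r + 1 := ⟨q - 1, by omega⟩
      rw [Nat.add_sub_cancel]; ring
    rw [hK, h1, pow_succ, pow_mul, hx, one_pow, one_mul]
  set P : Polynomial L := Polynomial.X ^ Fintype.card K - Polynomial.X with hP
  have hP0 : P ≠ 0 := FiniteField.X_pow_card_sub_X_ne_zero L hN1
  have hdeg : P.natDegree = Fintype.card K := FiniteField.X_pow_card_sub_X_natDegree_eq L hN1
  set S : Finset L := Finset.univ.image (algebraMap K L) with hS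
  have hScard : S.card = Fintype.card K := by
    rw [hS, Finset.card_image_of_injective _ hinj, Finset.card_univ]
  have hroot : ∀ y : L, y ^ Fintype.card K = y → y ∈ P.roots.toFinset := by
    intro y hy
    rw [Multiset.mem_toFinset, Polynomial.mem_roots hP0, Polynomial.IsRoot.def, hP,
      Polynomial.eval_sub, Polynomial.eval_pow, Polynomial.eval_X, hy, sub_self]
  have hSroots : S ⊆ P.roots.toFinset := by
    intro y hy
    rw [hS, Finset.mem_image] at hy
    obtain ⟨a, -, rfl⟩ := hy
    apply hroot
    rw [← map_pow, FiniteField.pow_card]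
  have hxS : x ∈ S := by
    by_contra hxS
    have hsub : insert x S ⊆ P.roots.toFinset := by
      intro y hy
      rcases Finset.mem_insert.mp hy with rfl | hy
      · exact hroot _ hxN
      · exact hSroots hy
    have h1 := Finset.card_le_card hsub
    rw [Finset.card_insert_of_notMem hxS, hScard] at h1
    have h2 : P.roots.toFinset.card ≤ Multiset.card P.roots := Multiset.toFinset_card_le _
    have h3 := Polynomial.card_roots' P
    omega
  rw [hS, Finset.mem_image] at hxS
  obtain ⟨μ, -, hμ⟩ := hxS
  refine ⟨μ, ?_, hμ⟩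
  apply hinj
  rw [map_pow, hμ, hx, map_one]

end Cfsg.Agent.Helper94.Pu
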