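import Mathlib
import Cfsg.Agent.Helper94.Pu.Defs
import Cfsg.Agent.Helper43.GUPrimeB
import Cfsg.Agent.Helper94.Pu.P_U0
import Cfsg.Agent.Helper38.UnitaryPoly

set_option autoImplicit false
set_option linter.unusedSectionVars false
set_option linter.unusedVariables false


/-!
# (U2) a `utilde`-fixed monic irreducible `h` over `K = F_{q²}` has ODD degree `k` and divides
`X ^ ((q ^ k + 1) / (q + 1)) - C μ` for some `μ ∈ K` with `μ ^ (q + 1) = 1`

`utilde bar h = star (h.map bar) = C (..)⁻¹ * (h.map bar).reverse`, `bar x = x ^ q`.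
MODEL: `Cfsg/Agent/Helper94/Eo/P_F2.lean` (`sr_irreducible_dvd`, same proof shape, on main).
`L := AdjoinRoot h`, `α := root h ≠ 0`, `k := natDegree h = finrank K L`.
1. `β := (α ^ q)⁻¹` is a root of `h` in `L`: `(h.map bar)` evaluated at `α ^ q` is `(h(α)) ^ q = 0`
   (coefficients `a ^ q`, `L` has characteristic `p`, `q` a power of `p`: use `hbar` and
   `map_pow`, `(∑ aᵢ αⁱ) ^ q = ∑ aᵢ^q α^(q i)`: `sum_pow_char_pow`, or write `q = p ^ f` via
   `FiniteField.card` and use `iterateFrobenius`; helper38's `Cfsg.Agent.Helper38.starPoly_root` in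
   `Cfsg.Agent.Helper38.UnitaryPoly` is EXACTLY this statement for `starPoly bar P = (P.map bar).reverse`:
   `aeval s (starPoly bar P) = 0 → aeval ((s ^ q)⁻¹) P = 0` - check its hypotheses; with `P := h`, and `h = utilde bar h`
   a constant multiple of `starPoly bar h`, `s := α` gives `aeval ((α ^ q)⁻¹) h = 0`).
2. `τ : L →ₐ[K] L` with `τ α = β` (`AdjoinRoot.liftAlgHom`), bijective; `τ = φ ^ j`, `j < k`, `φ` the Frobenius `x ↦ x ^ (q²)`
   over `K` (`FiniteField.bijective_frobeniusAlgEquivOfAlgebraic_pow`), i.e. `(α ^ q)⁻¹ = α ^ ((q²) ^ j)`.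
3. `τ (τ α) = ((β) ^ q)⁻¹ = α ^ (q²) = φ α`, so `φ ^ (2 j) = φ` (alg homs agreeing on the generator `α`:
   `AdjoinRoot.algHom_ext`).  `orderOf φ = k` (`FiniteField.orderOf_frobeniusAlgEquivOfAlgebraic`).
   If `j = 0`: `φ = 1`, `k = 1`, and `α ^ (q + 1) = 1`.  If `j ≥ 1`: `φ ^ (2 j - 1) = 1`, `k ∣ 2 j - 1 < 2 k`, so `k = 2 j - 1` is odd,
   and `α ^ (q ^ (k + 1) + q) = 1`, i.e. `(α ^ (q ^ k + 1)) ^ q = 1`, so `α ^ (q ^ k + 1) = 1` (`x ↦ x ^ q` is injective
   on the finite field `L` of characteristic `p`, or: `gcd (q, |Lˣ|) = 1`).  In both cases `k` odd and `α ^ (q ^ k + 1) = 1`.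
4. `q + 1 ∣ q ^ k + 1` (`Odd.nat_add_dvd_pow_add_pow`), `ν := α ^ ((q ^ k + 1) / (q + 1))` has `ν ^ (q + 1) = 1`, so
   `ν = algebraMap K L μ` (`exists_of_pow_succ_eq_one`, (U0)), and `α` is a root of `X ^ (..) - C μ`, hence `h` divides it
   (`AdjoinRoot.mk_eq_zero`).
-/

namespace Cfsg.Agent.Helper94.Pu

open Polynomial Cfsg.Agent.Helper43.GUPrime

theorem selfconj_irreducible {K : Type*} [Field K] [Fintype K] {q : ℕ}
    (hK : Fintype.card K = q ^ 2) (bar : K →+* K) (hbar : ∀ x, bar x = x ^ q) {h : K[X]}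
    (hirr : Irreducible h) (hmon : h.Monic) (h0 : h.coeff 0 ≠ 0) (hfix : utilde bar h = h) :
    Odd h.natDegree ∧
      ∃ μ : K, μ ^ (q + 1) = 1 ∧ h ∣ X ^ ((q ^ h.natDegree + 1) / (q + 1)) - C μ := by
  classical
  -- the characteristic, `q = p ^ k`
  obtain ⟨p, hchar⟩ := CharP.exists K
  have hpp : p.Prime := CharP.char_is_prime K p
  have hpfact : Fact p.Prime := ⟨hpp⟩
  obtain ⟨n, -, hn⟩ := FiniteField.card K p
  have hqdvd : q ∣ p ^ (n : ℕ) := by
    rw [← hn, hK]
    exact dvd_pow_self q two_ne_zero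
  obtain ⟨k, -, hqk⟩ := (Nat.dvd_prime_pow hpp).mp hqdvd
  have hq0 : 0 < q := by rw [hqk]; exact pow_pos hpp.pos k
  -- the field `L = K[X]/(h)`
  have hfact : Fact (Irreducible h) := ⟨hirr⟩
  have hh0 : h ≠ 0 := hirr.ne_zero
  have hfin : Module.Finite K (AdjoinRoot h) := (AdjoinRoot.powerBasis hh0).finite
  have hfin' : Finite (AdjoinRoot h) := Module.finite_of_finite K
  have hd : Module.finrank K (AdjoinRoot h) = h.natDegree := by
    rw [(AdjoinRoot.powerBasis hh0).finrank, AdjoinRoot.powerBasis_dim]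
  have hcharL : CharP (AdjoinRoot h) p :=
    charP_of_injective_algebraMap (algebraMap K (AdjoinRoot h)).injective p
  set α : AdjoinRoot h := AdjoinRoot.root h with hαdef
  have hα : α ≠ 0 := by
    intro hzero
    rw [hαdef, ← AdjoinRoot.mk_X, AdjoinRoot.mk_eq_zero] at hzero
    have h1 : (X : K[X]) ∣ h := hirr.dvd_symm irreducible_X hzero
    exact h0 (X_dvd_iff.mp h1)
  -- `x ↦ x ^ q` is injective at `1`
  have hfrob : ∀ x : AdjoinRoot h, x ^ q = 1 → x = 1 := by
    intro x hx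
    have h1 : (x - 1) ^ q = 0 := by
      rw [hqk, sub_pow_char_pow, ← hqk, hx, one_pow, sub_self]
    exact sub_eq_zero.mp ((pow_eq_zero_iff hq0.ne').mp h1)
  -- `β = (α ^ q)⁻¹` is a root of `h`
  have hroot : aeval α (Cfsg.Agent.Helper38.starPoly bar h) = 0 := by
    have h1 : aeval α h = 0 := by rw [hαdef, AdjoinRoot.aeval_eq, AdjoinRoot.mk_self]
    have h2 : h = C ((h.map bar).coeff 0)⁻¹ * (h.map bar).reverse := by
      conv_lhs => rw [← hfix]
      rfl
    have h1' : aeval α (C ((h.map bar).coeff 0)⁻¹ * (h.map bar).reverse) = 0 := by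
      rw [← h2]
      exact h1
    rw [map_mul, aeval_C] at h1'
    rcases mul_eq_zero.mp h1' with h3 | h3
    · exfalso
      have h4 : ((h.map bar).coeff 0)⁻¹ = 0 :=
        (algebraMap K (AdjoinRoot h)).injective (by rw [h3, map_zero])
      rw [inv_eq_zero, coeff_map] at h4
      exact h0 (bar.injective (by rw [h4, map_zero]))
    · exact h3
  have hβroot : aeval ((α ^ q)⁻¹) h = 0 :=
    Cfsg.Agent.Helper38.starPoly_root p hqk hK bar hbar h α hα hroot
  have hβ2 : h.eval₂ (AdjoinRoot.of h) ((α ^ q)⁻¹) = 0 := by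
    rw [← hβroot, aeval_def]
    rfl
  -- the endomorphism `α ↦ β`
  let τ : AdjoinRoot h →ₐ[K] AdjoinRoot h :=
    AdjoinRoot.liftAlgHom h (Algebra.ofId K (AdjoinRoot h)) ((α ^ q)⁻¹) hβ2
  have hτα : τ α = (α ^ q)⁻¹ := AdjoinRoot.liftAlgHom_root _ _ _ _
  have hτinj : Function.Injective τ := τ.toRingHom.injective
  have hτbij : Function.Bijective τ := ⟨hτinj, Finite.injective_iff_surjective.mp hτinj⟩
  let τe : AdjoinRoot h ≃ₐ[K] AdjoinRoot h := AlgEquiv.ofBijective τ hτbij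
  obtain ⟨⟨j, hj⟩, hjeq⟩ :=
    (FiniteField.bijective_frobeniusAlgEquivOfAlgebraic_pow K (AdjoinRoot h)).2 τe
  have hjeq' : FiniteField.frobeniusAlgEquivOfAlgebraic K (AdjoinRoot h) ^ j = τe := hjeq
  rw [hd] at hj
  have hφα : ∀ m : ℕ, (FiniteField.frobeniusAlgEquivOfAlgebraic K (AdjoinRoot h) ^ m) α =
      α ^ (Fintype.card K ^ m) := by
    intro m
    simp only [AlgEquiv.coe_pow, FiniteField.coe_frobeniusAlgEquivOfAlgebraic, pow_iterate]
  have hαj : α ^ (Fintype.card K ^ j) = (α ^ q)⁻¹ := by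
    rw [← hφα, hjeq']
    exact hτα
  -- `φ ^ (2 j) = φ`
  have hφ2 : FiniteField.frobeniusAlgEquivOfAlgebraic K (AdjoinRoot h) ^ (2 * j) =
      FiniteField.frobeniusAlgEquivOfAlgebraic K (AdjoinRoot h) ^ 1 := by
    apply AlgEquiv.coe_toAlgHom_injective
    apply AdjoinRoot.algHom_ext
    show (FiniteField.frobeniusAlgEquivOfAlgebraic K (AdjoinRoot h) ^ (2 * j)) α =
      (FiniteField.frobeniusAlgEquivOfAlgebraic K (AdjoinRoot h) ^ 1) α
    rw [hφα, hφα, pow_one, two_mul, pow_add, pow_mul, hαj, inv_pow, ← pow_mul, mul_comm q, pow_mul,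
      hαj, inv_pow, inv_inv, ← pow_mul, hK, sq]
  have hord : orderOf (FiniteField.frobeniusAlgEquivOfAlgebraic K (AdjoinRoot h)) = h.natDegree := by
    rw [FiniteField.orderOf_frobeniusAlgEquivOfAlgebraic, hd]
  have hmod : 2 * j ≡ 1 [MOD h.natDegree] := by
    rw [← hord]
    exact pow_eq_pow_iff_modEq.mp hφ2
  have hk1 : 1 ≤ h.natDegree := hirr.natDegree_pos
  obtain ⟨hodd, hpow1⟩ : Odd h.natDegree ∧ α ^ (q ^ h.natDegree + 1) = 1 := by
    rcases Nat.eq_zero_or_pos j with hj0 | hj0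
    · rw [hj0, mul_zero] at hmod
      have hk : h.natDegree = 1 := Nat.dvd_one.mp ((Nat.modEq_zero_iff_dvd).mp hmod.symm)
      refine ⟨by rw [hk]; exact odd_one, ?_⟩
      rw [hj0, pow_zero, pow_one] at hαj
      rw [hk, pow_one, pow_succ]
      nth_rewrite 2 [hαj]
      exact mul_inv_cancel₀ (pow_ne_zero q hα)
    · have hdvd : h.natDegree ∣ 2 * j - 1 := (Nat.modEq_iff_dvd' (by omega)).mp hmod.symm
      obtain ⟨t, ht⟩ := hdvd
      have ht1 : t = 1 := by
        have h1 : 0 < t := by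
          rcases Nat.eq_zero_or_pos t with h | h
          · rw [h, mul_zero] at ht; omega
          · exact h
        have h2 : t < 2 := by
          by_contra hcon
          have : h.natDegree * 2 ≤ h.natDegree * t := Nat.mul_le_mul_left _ (by omega)
          omega
        omega
      rw [ht1, mul_one] at ht
      have hkodd : Odd h.natDegree := ⟨j - 1, by omega⟩
      refine ⟨hkodd, ?_⟩
      have h1 : α ^ (Fintype.card K ^ j + q) = 1 := by
        rw [pow_add, hαj]
        exact inv_mul_cancel₀ (pow_ne_zero q hα)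
      have h2 : Fintype.card K ^ j + q = (q ^ h.natDegree + 1) * q := by
        have e1 : 2 * j = h.natDegree + 1 := by omega
        rw [hK, ← pow_mul, e1, add_mul, one_mul, ← pow_succ]
      rw [h2, pow_mul] at h1
      exact hfrob _ h1
  -- the scalar
  have hdvdq : q + 1 ∣ q ^ h.natDegree + 1 := by
    have h1 := Odd.nat_add_dvd_pow_add_pow q 1 hodd
    rwa [one_pow] at h1
  obtain ⟨e, he⟩ := hdvdq
  have hediv : (q ^ h.natDegree + 1) / (q + 1) = e := by
    rw [he]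
    exact Nat.mul_div_cancel_left e (by omega)
  have hν : (α ^ e) ^ (q + 1) = 1 := by
    rw [← pow_mul, mul_comm, ← he]
    exact hpow1
  obtain ⟨μ, hμ1, hμ2⟩ := exists_of_pow_succ_eq_one hK (α ^ e) hν
  refine ⟨hodd, μ, hμ1, ?_⟩
  rw [hediv, ← AdjoinRoot.mk_eq_zero, map_sub, map_pow, AdjoinRoot.mk_X, AdjoinRoot.mk_C, sub_eq_zero,
    ← hαdef, ← hμ2]
  rfl

end Cfsg.Agent.Helper94.Pu
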