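import Mathlib
import Cfsg.Agent.Helper94.Pu.Defs
import Cfsg.Agent.Helper43.GUPrimeB
import Cfsg.Agent.Helper94.Pu.P_U0
import Cfsg.Agent.Helper94.Eo.P_F1

set_option autoImplicit false
set_option linter.unusedSectionVars false
set_option linter.unusedVariables false


/-!
# (U3A) a monic irreducible `h` of degree `k` over `K = F_{q²}`, `h(0) ≠ 0`, divides
`X ^ ((q ^ (2 k) - 1) / (q + 1)) - C μ` for some `μ ∈ K` with `μ ^ (q + 1) = 1`

`L := AdjoinRoot h` has `(q²) ^ k = q ^ (2 k)` elements (MODEL: `Cfsg/Agent/Helper94/Eo/P_F1.lean` on main: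
`F1_card_adjoinRoot`, `dvd_X_pow_card_pow_sub_one`), `α := root h ≠ 0`, so `α ^ (q ^ (2 k) - 1) = 1`.
`q + 1 ∣ q ^ (2 k) - 1` (`q² - 1 ∣ (q²) ^ k - 1`).  `ν := α ^ ((q ^ (2 k) - 1) / (q + 1))`, `ν ^ (q + 1) = 1`, so
`ν = algebraMap K L μ` by (U0) `exists_of_pow_succ_eq_one`; then `α` is a root of `X ^ (..) - C μ` and `h` divides it
(`AdjoinRoot.mk_eq_zero`).
-/

namespace Cfsg.Agent.Helper94.Pu

open Polynomial

/-- `q + 1 ∣ q ^ (2 k) - 1` (helper81) -/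
theorem U3A_succ_dvd (q k : ℕ) : q + 1 ∣ q ^ (2 * k) - 1 := by
  have h1 : q ^ 2 - 1 ∣ (q ^ 2) ^ k - 1 := by
    simpa only [one_pow] using Nat.sub_dvd_pow_sub_pow (q ^ 2) 1 k
  have h2 : q + 1 ∣ q ^ 2 - 1 := by
    refine ⟨q - 1, ?_⟩
    rcases Nat.eq_zero_or_pos q with rfl | hq
    · rfl
    · obtain ⟨r, rfl⟩ : ∃ r, q = r + 1 := ⟨q - 1, by omega⟩
      simp only [Nat.add_sub_cancel]
      have : (r + 1) ^ 2 = (r + 1 + 1) * r + 1 := by ring
      omega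
  rw [pow_mul]
  exact h2.trans h1

theorem irreducible_dvd_scalar {K : Type*} [Field K] [Fintype K] {q : ℕ}
    (hK : Fintype.card K = q ^ 2) {h : K[X]} (hirr : Irreducible h) (hmon : h.Monic)
    (h0 : h.coeff 0 ≠ 0) :
    ∃ μ : K, μ ^ (q + 1) = 1 ∧ h ∣ X ^ ((q ^ (2 * h.natDegree) - 1) / (q + 1)) - C μ := by
  classical
  have hfact : Fact (Irreducible h) := ⟨hirr⟩
  have hh0 : h ≠ 0 := hirr.ne_zero
  have hfin : Module.Finite K (AdjoinRoot h) := (AdjoinRoot.powerBasis hh0).finite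
  have hfin' : Finite (AdjoinRoot h) := Module.finite_of_finite K
  let _ : Fintype (AdjoinRoot h) := Fintype.ofFinite _
  have hcard : Fintype.card (AdjoinRoot h) = q ^ (2 * h.natDegree) := by
    rw [← Nat.card_eq_fintype_card, Cfsg.Agent.Helper94.Eo.F1_card_adjoinRoot hirr, hK, ← pow_mul]
  have hα : AdjoinRoot.root h ≠ 0 := Cfsg.Agent.Helper94.Eo.F1_root_ne_zero hirr h0
  have hpow : AdjoinRoot.root h ^ (q ^ (2 * h.natDegree) - 1) = 1 := by
    rw [← hcard]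
    exact FiniteField.pow_card_sub_one_eq_one _ hα
  obtain ⟨N, hN⟩ := U3A_succ_dvd q h.natDegree
  have hdiv : (q ^ (2 * h.natDegree) - 1) / (q + 1) = N := by
    rw [hN]
    exact Nat.mul_div_cancel_left N (Nat.succ_pos q)
  have hν : (AdjoinRoot.root h ^ N) ^ (q + 1) = 1 := by
    rw [← pow_mul, mul_comm, ← hN, hpow]
  obtain ⟨μ, hμ, hμν⟩ := exists_of_pow_succ_eq_one hK (AdjoinRoot.root h ^ N) hν
  refine ⟨μ, hμ, ?_⟩
  rw [hdiv, ← AdjoinRoot.mk_eq_zero, map_sub, map_pow, AdjoinRoot.mk_X, AdjoinRoot.mk_C,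
    ← AdjoinRoot.algebraMap_eq, hμν, sub_self]

end Cfsg.Agent.Helper94.Pu
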