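import Mathlib
import Cfsg.Agent.Helper94.Pu.Defs
import Cfsg.Agent.Helper43.GUPrimeB
import Cfsg.Agent.Helper38.UnitaryPoly

set_option autoImplicit false
set_option linter.unusedSectionVars false
set_option linter.unusedVariables false


/-!
# (U3B) `h ∣ X ^ N - C μ`, `μ ^ (q + 1) = 1` ⟹ `utilde bar h ∣ X ^ N - C μ`

`utilde bar h = star (h.map bar) = C (..)⁻¹ * (h.map bar).reverse` is a unit multiple of helper38's
`starPoly bar h = (h.map bar).reverse` (the constant `(h.map bar).coeff 0 = bar (h.coeff 0) ≠ 0`), and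
`Cfsg.Agent.Helper38.starPoly_dvd_X_pow_sub_C bar j μ (hμ : μ * bar μ = 1) (h : P ∣ X ^ j - C μ) :
starPoly bar P ∣ X ^ j - C μ`; `μ * bar μ = μ * μ ^ q = μ ^ (q + 1) = 1`.
Also: `bar` is an involution when `|K| = q²` (`FiniteField.pow_card`).
-/

namespace Cfsg.Agent.Helper94.Pu

open Polynomial Cfsg.Agent.Helper43.GUPrime

theorem bar_bar {K : Type*} [Field K] [Fintype K] {q : ℕ} (hK : Fintype.card K = q ^ 2)
    (bar : K →+* K) (hbar : ∀ x, bar x = x ^ q) (x : K) : bar (bar x) = x := by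
  rw [hbar, hbar, ← pow_mul, ← pow_two, ← hK, FiniteField.pow_card]

theorem utilde_dvd_scalar {K : Type*} [Field K] {q : ℕ} (bar : K →+* K)
    (hbar : ∀ x, bar x = x ^ q) {h : K[X]} (h0 : h.coeff 0 ≠ 0) {N : ℕ} {μ : K}
    (hμ : μ ^ (q + 1) = 1) (hd : h ∣ X ^ N - C μ) : utilde bar h ∣ X ^ N - C μ := by
  have hμ' : μ * bar μ = 1 := by
    rw [hbar, ← pow_succ', hμ]
  have h1 : Cfsg.Agent.Helper38.starPoly bar h ∣ X ^ N - C μ :=
    Cfsg.Agent.Helper38.starPoly_dvd_X_pow_sub_C bar N μ hμ' hd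
  have hc : (h.map bar).coeff 0 ≠ 0 := by
    rw [Polynomial.coeff_map]
    exact (map_ne_zero bar).mpr h0
  have hu : IsUnit (C ((h.map bar).coeff 0)⁻¹ : K[X]) :=
    Polynomial.isUnit_C.2 (inv_ne_zero hc).isUnit
  have h2 : utilde bar h = C ((h.map bar).coeff 0)⁻¹ * Cfsg.Agent.Helper38.starPoly bar h := rfl
  rw [h2]
  exact (hu.mul_left_dvd).2 h1

end Cfsg.Agent.Helper94.Pu
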