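import Mathlib
import Cfsg.Agent.Helper94.Pu.Defs

set_option autoImplicit false
set_option linter.unusedSectionVars false
set_option linter.unusedVariables false

/-!
# (U4) powers: `ψ ∣ X ^ N - C μ` ⟹ `ψ ^ m ∣ X ^ (N * p ^ clog p m) - C (μ ^ (p ^ clog p m))` in characteristic `p`

`(X ^ N - C μ) ^ (p ^ a) = X ^ (N p^a) - C (μ ^ (p ^ a))` (`sub_pow_char_pow` in `K[X]`, which has `CharP K[X] p`),
`m ≤ p ^ clog p m` (`Nat.le_pow_clog`), `ψ ^ m ∣ ψ ^ (p ^ a) ∣ (X ^ N - C μ) ^ (p ^ a)`.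
MODEL: `BLK_pow_dvd` in `Cfsg/Agent/Helper94/Eo/P_BLK.lean` on main.  Also the elementary divisibilities.
-/

namespace Cfsg.Agent.Helper94.Pu

open Polynomial

theorem pow_dvd_of_dvd {K : Type*} [Field K] {p : ℕ} [CharP K p] (hp : p.Prime) {ψ : K[X]} {N : ℕ}
    {μ : K} (hd : ψ ∣ X ^ N - C μ) (m : ℕ) :
    ψ ^ m ∣ X ^ (N * p ^ Nat.clog p m) - C (μ ^ (p ^ Nat.clog p m)) := by
  have : Fact p.Prime := ⟨hp⟩
  have h1 : m ≤ p ^ Nat.clog p m := Nat.le_pow_clog hp.one_lt m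
  have h2 : (X ^ N - C μ : K[X]) ^ (p ^ Nat.clog p m) =
      X ^ (N * p ^ Nat.clog p m) - C (μ ^ (p ^ Nat.clog p m)) := by
    rw [sub_pow_char_pow, ← pow_mul, C_pow]
  rw [← h2]
  exact (pow_dvd_pow ψ h1).trans (pow_dvd_pow_of_dvd hd _)

/-- `X ^ a - C μ ∣ X ^ (a * b) - C (μ ^ b)` -/
theorem X_pow_sub_C_dvd {K : Type*} [Field K] (a b : ℕ) (μ : K) :
    (X ^ a - C μ : K[X]) ∣ X ^ (a * b) - C (μ ^ b) := by
  rw [pow_mul, C_pow]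
  exact sub_dvd_pow_sub_pow (X ^ a) (C μ) b

/-- `X ^ a - 1 ∣ X ^ b - 1` when `a ∣ b` -/
theorem X_pow_sub_one_dvd' {K : Type*} [Field K] {a b : ℕ} (h : a ∣ b) :
    (X ^ a - 1 : K[X]) ∣ X ^ b - 1 := by
  obtain ⟨c, rfl⟩ := h
  have := X_pow_sub_C_dvd (K := K) a c 1
  simpa using this

end Cfsg.Agent.Helper94.Pu
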