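import Mathlib
import Cfsg.Agent.Helper94.Pu.Defs
import Cfsg.Agent.Helper43.GUPrimeB
import Cfsg.Agent.Helper94.Pu.P_E1
import Cfsg.Agent.Helper94.Pu.P_U2
import Cfsg.Agent.Helper94.Pu.P_U3A
import Cfsg.Agent.Helper94.Pu.P_U3B
import Cfsg.Agent.Helper94.Pu.P_U4

set_option autoImplicit false
set_option linter.unusedSectionVars false
set_option linter.unusedVariables false

/-!
# (BLK) the two kinds of blocks, from the statements of (U2), (U3A), (U3B), (U4), (E1)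

* `blockA`: `h` monic irreducible, `utilde bar h = h`, `k := natDegree h`: `k` is odd (`selfconj_irreducible`), so
  `eN q k = q ^ k + 1`; `h ∣ X ^ x - C μ` with `x = eN q k / (q + 1)`, `μ ^ (q+1) = 1`; by `pow_dvd_of_dvd`
  `h ^ m ∣ X ^ (x * P) - C (μ ^ P)`, `P := p ^ clog p m`, and `(μ ^ P) ^ (q + 1) = 1`.  Moreover
  `X ^ (x P) - C (μ^P) ∣ X ^ (x P (q+1)) - C ((μ^P)^(q+1)) = X ^ (eN q k * P) - 1` (`X_pow_sub_C_dvd`, `x * (q+1) = eN q k`
  by `succ_dvd_eN`, `C 1 = 1`).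
* `blockB`: `h` monic irreducible of degree `k`, `g := utilde bar h ≠ h`, `IsCoprime h g`: `eN q (2 k) = q ^ (2 k) - 1`;
  `h ∣ X ^ x - C μ`, `x = eN q (2 k) / (q + 1)` (`irreducible_dvd_scalar`), `g ∣ X ^ x - C μ` (`utilde_dvd_scalar`), so
  `h * g ∣ X ^ x - C μ` (`IsCoprime.mul_dvd`); then as in `blockA`.
-/

namespace Cfsg.Agent.Helper94.Pu

open Polynomial Cfsg.Agent.Helper43.GUPrime

variable {K : Type*} [Field K] [Fintype K]

/-- (BLK aux) the common part of `blockA` and `blockB` -/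
theorem BLK_common {p q : ℕ} [CharP K p] (hp : p.Prime) {ψ : K[X]} {E : ℕ} (hE : q + 1 ∣ E) {μ : K}
    (hμ : μ ^ (q + 1) = 1) (hd : ψ ∣ X ^ (E / (q + 1)) - C μ) (m : ℕ) :
    ψ ^ m ∣ X ^ (E * p ^ Nat.clog p m) - 1 ∧
      ∃ μ' : K, μ' ^ (q + 1) = 1 ∧ ψ ^ m ∣ X ^ (E / (q + 1) * p ^ Nat.clog p m) - C μ' := by
  have h1 := pow_dvd_of_dvd hp hd m
  have hμ' : (μ ^ (p ^ Nat.clog p m)) ^ (q + 1) = 1 := by
    rw [← pow_mul, mul_comm, pow_mul, hμ, one_pow]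
  refine ⟨?_, μ ^ (p ^ Nat.clog p m), hμ', h1⟩
  have h2 := X_pow_sub_C_dvd (K := K) (E / (q + 1) * p ^ Nat.clog p m) (q + 1)
    (μ ^ (p ^ Nat.clog p m))
  rw [hμ', C_1] at h2
  have e1 : E / (q + 1) * p ^ Nat.clog p m * (q + 1) = E * p ^ Nat.clog p m := by
    rw [mul_right_comm, Nat.div_mul_cancel hE]
  rw [e1] at h2
  exact dvd_trans h1 h2

theorem blockA {p q : ℕ} [CharP K p] (hp : p.Prime) (hq2 : 2 ≤ q) (hK : Fintype.card K = q ^ 2)
    (bar : K →+* K) (hbar : ∀ x, bar x = x ^ q) {h : K[X]} (hirr : Irreducible h) (hmon : h.Monic)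
    (h0 : h.coeff 0 ≠ 0) (hfix : utilde bar h = h) (m : ℕ) :
    h ^ m ∣ X ^ (eN q h.natDegree * p ^ Nat.clog p m) - 1 ∧
      ∃ μ : K, μ ^ (q + 1) = 1 ∧
        h ^ m ∣ X ^ (eN q h.natDegree / (q + 1) * p ^ Nat.clog p m) - C μ := by
  obtain ⟨hodd, μ, hμ, hd⟩ := selfconj_irreducible hK bar hbar hirr hmon h0 hfix
  have hk1 : 1 ≤ h.natDegree := hirr.natDegree_pos
  have heN : eN q h.natDegree = q ^ h.natDegree + 1 := by
    unfold eN
    rw [if_neg (Nat.not_even_iff_odd.mpr hodd)]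
  have hE : q + 1 ∣ eN q h.natDegree := succ_dvd_eN q h.natDegree hk1
  rw [← heN] at hd
  exact BLK_common hp hE hμ hd m

theorem blockB {p q : ℕ} [CharP K p] (hp : p.Prime) (hq2 : 2 ≤ q) (hK : Fintype.card K = q ^ 2)
    (bar : K →+* K) (hbar : ∀ x, bar x = x ^ q) {h : K[X]} (hirr : Irreducible h) (hmon : h.Monic)
    (h0 : h.coeff 0 ≠ 0) (hcop : IsCoprime h (utilde bar h)) (m : ℕ) :
    (h * utilde bar h) ^ m ∣ X ^ (eN q (2 * h.natDegree) * p ^ Nat.clog p m) - 1 ∧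
      ∃ μ : K, μ ^ (q + 1) = 1 ∧
        (h * utilde bar h) ^ m ∣
          X ^ (eN q (2 * h.natDegree) / (q + 1) * p ^ Nat.clog p m) - C μ := by
  obtain ⟨μ, hμ, hd⟩ := irreducible_dvd_scalar hK hirr hmon h0
  have hd' := utilde_dvd_scalar bar hbar h0 hμ hd
  have hk1 : 1 ≤ h.natDegree := hirr.natDegree_pos
  have heN : eN q (2 * h.natDegree) = q ^ (2 * h.natDegree) - 1 := by
    unfold eN
    rw [if_pos (even_two_mul _)]
  have hE : q + 1 ∣ eN q (2 * h.natDegree) := succ_dvd_eN q (2 * h.natDegree) (by omega)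
  have hd2 : h * utilde bar h ∣ X ^ (eN q (2 * h.natDegree) / (q + 1)) - C μ := by
    rw [heN]
    exact hcop.mul_dvd hd hd'
  exact BLK_common hp hE hμ hd2 m

end Cfsg.Agent.Helper94.Pu
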