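import Mathlib
import Cfsg.Agent.Helper94.Pu.Defs

set_option autoImplicit false
set_option linter.unusedSectionVars false
set_option linter.unusedVariables false

/-!
# (PP) the `p`-part `p ^ clog p m`

`a = Nat.clog p m` is the least `a` with `m ≤ p ^ a`.  For `m ≥ 2`: `a ≥ 1` and `p ^ (a - 1) < m`
(`Nat.lt_pow_iff_log_lt`/`Nat.pow_pred_clog_lt_self`), so `p ^ a ≤ p * (m - 1)`.
`p * t ≤ p ^ t` for `t ≥ 1` (induction), so `p ^ a ≤ p ^ (m - 1) ≤ q ^ (m - 1)`.
-/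

namespace Cfsg.Agent.Helper94.Pu

theorem pclog_le_mul {p : ℕ} (hp : p.Prime) {m : ℕ} (hm : 2 ≤ m) :
    p ^ Nat.clog p m ≤ p * (m - 1) := by
  have hp1 : 1 < p := hp.one_lt
  have hpos : 0 < Nat.clog p m := Nat.clog_pos hp1 (by omega)
  have hlt := Nat.pow_pred_clog_lt_self hp1 (show 1 < m by omega)
  have h1 : p ^ Nat.clog p m = p * p ^ (Nat.clog p m).pred := by
    rw [← pow_succ']
    congr 1
    have : (Nat.clog p m).pred = Nat.clog p m - 1 := rfl
    omega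
  rw [h1]
  exact Nat.mul_le_mul_left p (by omega)

theorem pclog_le_pow {p f q : ℕ} (hp : p.Prime) (hf : 1 ≤ f) (hq : q = p ^ f) {m : ℕ} (hm : 1 ≤ m) :
    p ^ Nat.clog p m ≤ q ^ (m - 1) := by
  have hp1 : 1 < p := hp.one_lt
  have h1 : Nat.clog p m ≤ m - 1 := by
    apply Nat.clog_le_of_le_pow
    have := Nat.lt_pow_self (n := m - 1) hp1
    omega
  have hpq : p ≤ q := by
    rw [hq]
    calc p = p ^ 1 := (pow_one p).symm
      _ ≤ p ^ f := Nat.pow_le_pow_right hp.pos hf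
  calc p ^ Nat.clog p m ≤ p ^ (m - 1) := Nat.pow_le_pow_right hp.pos h1
    _ ≤ q ^ (m - 1) := Nat.pow_le_pow_left hpq _

theorem pclog_one (p : ℕ) : p ^ Nat.clog p 1 = 1 := by
  rw [Nat.clog_one_right, pow_zero]

theorem pclog_two {p : ℕ} (hp : p.Prime) : p ^ Nat.clog p 2 = p := by
  rw [Nat.clog_eq_one (le_refl 2) hp.two_le, pow_one]

/-- `p ^ clog p 3 = 4` if `p = 2`, and `= p` otherwise -/
theorem pclog_three {p : ℕ} (hp : p.Prime) : p ^ Nat.clog p 3 = if p = 2 then 4 else p := by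
  by_cases h2 : p = 2
  · rw [if_pos h2, h2]
    have h : Nat.clog 2 3 = 2 := by
      apply le_antisymm
      · exact Nat.clog_le_of_le_pow (by norm_num)
      · exact (Nat.lt_clog_iff_pow_lt (by norm_num)).mpr (by norm_num)
    rw [h]
    norm_num
  · rw [if_neg h2]
    have h3 : 3 ≤ p := by
      have := hp.two_le
      omega
    rw [Nat.clog_eq_one (by norm_num) h3, pow_one]

theorem le_pclog {p : ℕ} (hp : p.Prime) (m : ℕ) : m ≤ p ^ Nat.clog p m :=
  Nat.le_pow_clog hp.one_lt m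

theorem pclog_mono {p : ℕ} (hp : p.Prime) {m m' : ℕ} (h : m ≤ m') :
    p ^ Nat.clog p m ∣ p ^ Nat.clog p m' :=
  pow_dvd_pow p (Nat.clog_mono_right p h)

end Cfsg.Agent.Helper94.Pu
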