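import Mathlib
import Cfsg.Agent.Helper94.Pu.Defs
import Cfsg.Agent.Helper43.GUPrimeB

set_option autoImplicit false
set_option linter.unusedSectionVars false
set_option linter.unusedVariables false

/-!
# (USTEP) splitting off the primary block of an irreducible factor of a `utilde`-fixed polynomial

MODEL: `Cfsg/Agent/Helper94/Eo/P_STEP.lean` on main (`step_A`, `step_B` for the plain reciprocal `mrev`; same proof
with `utilde bar` in place of `mrev`).  Tools in `Cfsg.Agent.Helper43.GUPrime` (`GUPrimeB.lean`): `utilde_mul`,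
`utilde_pow`, `utilde_dvd`, `utilde_props bar hbar2 f hfm hf0 : (utilde bar f).Monic ∧ (utilde bar f).coeff 0 ≠ 0 ∧
(utilde bar f).natDegree = f.natDegree ∧ utilde bar (utilde bar f) = f`, `utilde_irreducible`.
`m :=` the multiplicity of `h` in `χ`: `χ = h ^ m * χ₁`, `¬ h ∣ χ₁`, `m ≥ 1`.
* `step_UA` (`utilde bar h = h`): `χ' := χ₁`; `utilde bar χ' = χ'` by cancelling `h ^ m ≠ 0` in
  `utilde χ = utilde (h^m) * utilde χ₁ = h ^ m * utilde χ₁`.
* `step_UB` (`utilde bar h ≠ h`): `g := utilde bar h` is monic irreducible, coprime to `h`, `g ^ m ∣ utilde χ = χ`,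
  so `g ^ m ∣ χ₁`, `χ₁ = g ^ m * χ'`; `¬ g ∣ χ'` (else `g ^ (m+1) ∣ χ`, `h ^ (m+1) = utilde (g ^ (m+1)) ∣ utilde χ = χ`);
  `utilde χ' = χ'` by cancelling `(h g) ^ m`, `utilde (h g) = g h`.
Constant coefficients: a divisor of a polynomial with nonzero constant coefficient has nonzero constant coefficient.
-/

namespace Cfsg.Agent.Helper94.Pu

open Polynomial Cfsg.Agent.Helper43.GUPrime

variable {K : Type*} [Field K]

theorem coeff_zero_ne_of_dvd {χ h : K[X]} (h0 : χ.coeff 0 ≠ 0) (hd : h ∣ χ) : h.coeff 0 ≠ 0 := by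
  intro hh
  obtain ⟨g, rfl⟩ := hd
  apply h0
  rw [mul_coeff_zero, hh, zero_mul]

/-- the multiplicity split of an irreducible factor (aux for USTEP) -/
theorem USTEP_split {χ h : K[X]} (hχ : χ.Monic) (hirr : Irreducible h) (hdvd : h ∣ χ) :
    ∃ (m : ℕ) (χ₁ : K[X]), 1 ≤ m ∧ χ = h ^ m * χ₁ ∧ ¬ h ∣ χ₁ ∧ ¬ h ^ (m + 1) ∣ χ := by
  have hχ0 : χ ≠ 0 := hχ.ne_zero
  have hfin : FiniteMultiplicity h χ := FiniteMultiplicity.of_not_isUnit hirr.not_isUnit hχ0
  obtain ⟨χ₁, hχ₁, hnd⟩ := hfin.exists_eq_pow_mul_and_not_dvd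
  refine ⟨multiplicity h χ, χ₁, ?_, hχ₁, hnd, ?_⟩
  · exact hfin.le_multiplicity_of_pow_dvd (by simpa using hdvd)
  · exact hfin.not_pow_dvd_of_multiplicity_lt (Nat.lt_succ_self _)

theorem step_UA (bar : K →+* K) (hbar2 : ∀ x, bar (bar x) = x) {χ h : K[X]} (hχ : χ.Monic)
    (hχ0 : χ.coeff 0 ≠ 0) (hχu : utilde bar χ = χ) (hirr : Irreducible h) (hmon : h.Monic)
    (hdvd : h ∣ χ) (hfix : utilde bar h = h) :
    ∃ (m : ℕ) (χ' : K[X]), 1 ≤ m ∧ χ = h ^ m * χ' ∧ χ'.Monic ∧ χ'.coeff 0 ≠ 0 ∧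
      utilde bar χ' = χ' ∧ IsCoprime (h ^ m) χ' := by
  obtain ⟨m, χ₁, hm, hχ₁, hnd, -⟩ := USTEP_split hχ hirr hdvd
  refine ⟨m, χ₁, hm, hχ₁, ?_, ?_, ?_, ?_⟩
  · exact (hmon.pow m).of_mul_monic_left (hχ₁ ▸ hχ)
  · exact coeff_zero_ne_of_dvd hχ0 ⟨h ^ m, by rw [hχ₁]; ring⟩
  · have h1 : utilde bar χ = h ^ m * utilde bar χ₁ := by
      conv_lhs => rw [hχ₁]
      rw [utilde_mul, utilde_pow, hfix]
    rw [hχu] at h1
    have h2 : h ^ m * χ₁ = h ^ m * utilde bar χ₁ := by rw [← hχ₁, ← h1]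
    exact (mul_left_cancel₀ (pow_ne_zero m hmon.ne_zero) h2).symm
  · exact (hirr.coprime_iff_not_dvd.mpr hnd).pow_left

theorem step_UB (bar : K →+* K) (hbar2 : ∀ x, bar (bar x) = x) {χ h : K[X]} (hχ : χ.Monic)
    (hχ0 : χ.coeff 0 ≠ 0) (hχu : utilde bar χ = χ) (hirr : Irreducible h) (hmon : h.Monic)
    (hdvd : h ∣ χ) (hfix : utilde bar h ≠ h) :
    ∃ (m : ℕ) (χ' : K[X]), 1 ≤ m ∧ χ = (h * utilde bar h) ^ m * χ' ∧ χ'.Monic ∧ χ'.coeff 0 ≠ 0 ∧
      utilde bar χ' = χ' ∧ IsCoprime ((h * utilde bar h) ^ m) χ' ∧ IsCoprime h (utilde bar h) := by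
  have h0 : h.coeff 0 ≠ 0 := coeff_zero_ne_of_dvd hχ0 hdvd
  obtain ⟨hgm, hg0, -, hgg⟩ := utilde_props bar hbar2 h hmon h0
  have hgirr : Irreducible (utilde bar h) := utilde_irreducible bar hbar2 h hmon hirr h0
  obtain ⟨m, χ₁, hm, hχ₁, hnd, hnd'⟩ := USTEP_split hχ hirr hdvd
  -- `h` and `utilde h` are coprime
  have hcop : IsCoprime h (utilde bar h) := by
    rw [hirr.coprime_iff_not_dvd]
    intro hd
    have hass : Associated h (utilde bar h) := hirr.associated_of_dvd hgirr hd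
    exact hfix (eq_of_monic_of_associated hmon hgm hass).symm
  have hdvd' : utilde bar h ^ m ∣ χ := by
    have h1 : utilde bar (h ^ m) ∣ utilde bar χ := utilde_dvd bar ⟨χ₁, hχ₁⟩
    rwa [utilde_pow, hχu] at h1
  have hdvd₁ : utilde bar h ^ m ∣ χ₁ := by
    have hc : IsCoprime (utilde bar h ^ m) (h ^ m) := (hcop.symm.pow_left).pow_right
    rw [hχ₁] at hdvd'
    exact hc.dvd_of_dvd_mul_left hdvd'
  obtain ⟨χ', hχ'⟩ := hdvd₁
  have hχeq : χ = (h * utilde bar h) ^ m * χ' := by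
    rw [hχ₁, hχ', mul_pow, mul_assoc]
  have hmonic : ((h * utilde bar h) ^ m).Monic := (hmon.mul hgm).pow m
  have hfix2 : utilde bar (h * utilde bar h) = h * utilde bar h := by
    rw [utilde_mul, hgg, mul_comm]
  refine ⟨m, χ', hm, hχeq, ?_, ?_, ?_, ?_, hcop⟩
  · exact hmonic.of_mul_monic_left (hχeq ▸ hχ)
  · exact coeff_zero_ne_of_dvd hχ0 ⟨(h * utilde bar h) ^ m, by rw [hχeq]; ring⟩
  · have h1 : utilde bar χ = (h * utilde bar h) ^ m * utilde bar χ' := by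
      conv_lhs => rw [hχeq]
      rw [utilde_mul, utilde_pow, hfix2]
    rw [hχu] at h1
    have h2 : (h * utilde bar h) ^ m * χ' = (h * utilde bar h) ^ m * utilde bar χ' := by
      rw [← hχeq, ← h1]
    exact (mul_left_cancel₀ hmonic.ne_zero h2).symm
  · have h1 : IsCoprime h χ' := by
      rw [hirr.coprime_iff_not_dvd]
      intro hd
      apply hnd
      rw [hχ']
      exact dvd_mul_of_dvd_right hd _
    have h2 : IsCoprime (utilde bar h) χ' := by
      rw [hgirr.coprime_iff_not_dvd]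
      intro hd
      apply hnd'
      have h3 : utilde bar h ^ (m + 1) ∣ χ := by
        obtain ⟨c, hc⟩ := hd
        refine ⟨h ^ m * c, ?_⟩
        rw [hχ₁, hχ', hc, pow_succ]
        ring
      have h4 : utilde bar (utilde bar h ^ (m + 1)) ∣ utilde bar χ := utilde_dvd bar h3
      rwa [utilde_pow, hgg, hχu] at h4
    exact (h1.mul_left h2).pow_left

end Cfsg.Agent.Helper94.Pu
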