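import Mathlib
import Cfsg.Agent.Helper94.Pu.Defs
import Cfsg.Agent.Helper43.GUPrimeB
import Cfsg.Agent.Helper94.Pu.P_PP
import Cfsg.Agent.Helper94.Pu.P_U3B
import Cfsg.Agent.Helper94.Pu.P_U4
import Cfsg.Agent.Helper94.Pu.P_USTEP
import Cfsg.Agent.Helper94.Pu.P_BLK

set_option autoImplicit false
set_option linter.unusedSectionVars false
set_option linter.unusedVariables false

/-!
# Block structure of a `utilde`-fixed polynomial over `F_{q²}` (induction on the degree)
-/

namespace Cfsg.Agent.Helper94.Pu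

open Polynomial Cfsg.Agent.Helper43.GUPrime

variable {K : Type*} [Field K] [Fintype K]

theorem monic_natDegree_zero {χ : K[X]} (hχ : χ.Monic) (h : χ.natDegree = 0) : χ = 1 := by
  have := eq_C_of_natDegree_eq_zero h
  rw [this]
  have hl := hχ.leadingCoeff
  rw [leadingCoeff, h] at hl
  rw [hl, map_one]

/-- exponent bookkeeping: the exponent of the new block and the old exponent both divide the new
exponent -/
theorem exp_dvd {p q : ℕ} (hp : p.Prime) (b : ℕ × ℕ) (ℓ : Blocks) :
    eN q b.1 * p ^ Nat.clog p b.2 ∣ lcmB q (b :: ℓ) * ppow p (b :: ℓ) ∧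
      lcmB q ℓ * ppow p ℓ ∣ lcmB q (b :: ℓ) * ppow p (b :: ℓ) := by
  rw [lcmB_cons]
  unfold ppow
  rw [maxM_cons]
  constructor
  · exact Nat.mul_dvd_mul (Nat.dvd_lcm_left _ _) (pclog_mono hp (le_max_left _ _))
  · exact Nat.mul_dvd_mul (Nat.dvd_lcm_right _ _) (pclog_mono hp (le_max_right _ _))

theorem exists_blocks {p q : ℕ} [CharP K p] (hp : p.Prime) (hq2 : 2 ≤ q)
    (hK : Fintype.card K = q ^ 2) (bar : K →+* K) (hbar : ∀ x, bar x = x ^ q) :
    ∀ (d : ℕ) (χ : K[X]), χ.natDegree = d → χ.Monic → χ.coeff 0 ≠ 0 → utilde bar χ = χ →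
      ∃ ℓ : Blocks, Good ℓ ∧ dimB ℓ = d ∧ χ ∣ X ^ (lcmB q ℓ * ppow p ℓ) - 1 ∧
        ∀ n m, ℓ = [(n, m)] →
          ∃ μ : K, μ ^ (q + 1) = 1 ∧ χ ∣ X ^ (eN q n / (q + 1) * p ^ Nat.clog p m) - C μ := by
  have hbar2 : ∀ x, bar (bar x) = x := bar_bar hK bar hbar
  intro d
  induction d using Nat.strong_induction_on with
  | _ d ih =>
    intro χ hd hχ hχ0 hχu
    by_cases hd0 : d = 0
    · subst hd0
      have h1 : χ = 1 := monic_natDegree_zero hχ hd
      refine ⟨[], Good_nil, rfl, ?_, ?_⟩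
      · rw [h1]; exact one_dvd _
      · intro n m h; exact absurd h (by simp)
    · have hnu : ¬ IsUnit χ := by
        intro hu
        exact hd0 (hd ▸ natDegree_eq_zero_of_isUnit hu)
      obtain ⟨h, hmon, hirr, hdvd⟩ := exists_monic_irreducible_factor χ hnu
      have h0 : h.coeff 0 ≠ 0 := coeff_zero_ne_of_dvd hχ0 hdvd
      have hk : 1 ≤ h.natDegree := hirr.natDegree_pos
      by_cases hfix : utilde bar h = h
      · obtain ⟨m, χ', hm, hfac, hχ', hχ'0, hχ'u, hcop⟩ :=
          step_UA bar hbar2 hχ hχ0 hχu hirr hmon hdvd hfix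
        obtain ⟨hA1, μ, hμ, hA2⟩ := blockA (p := p) hp hq2 hK bar hbar hirr hmon h0 hfix m
        have hdeg : χ.natDegree = m * h.natDegree + χ'.natDegree := by
          rw [hfac, (hmon.pow m).natDegree_mul hχ', hmon.natDegree_pow]
        have hlt : χ'.natDegree < d := by
          rw [← hd, hdeg]
          have : 0 < m * h.natDegree := Nat.mul_pos hm hk
          omega
        obtain ⟨ℓ', hg', hdim', hdvd', -⟩ := ih _ hlt χ' rfl hχ' hχ'0 hχ'u
        refine ⟨(h.natDegree, m) :: ℓ', Good_cons hk hm hg', ?_, ?_, ?_⟩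
        · rw [dimB_cons, hdim', ← hd, hdeg]
          show h.natDegree * m + _ = _
          ring
        · obtain ⟨e1, e2⟩ := exp_dvd (q := q) hp (h.natDegree, m) ℓ'
          rw [hfac]
          exact hcop.mul_dvd (hA1.trans (X_pow_sub_one_dvd' e1)) (hdvd'.trans (X_pow_sub_one_dvd' e2))
        · intro n m0 hl
          rw [List.cons.injEq] at hl
          obtain ⟨hb, hl'⟩ := hl
          rw [Prod.mk.injEq] at hb
          obtain ⟨rfl, rfl⟩ := hb
          subst hl'
          have h1 : χ' = 1 := monic_natDegree_zero hχ' (by rw [← hdim']; rfl)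
          refine ⟨μ, hμ, ?_⟩
          rw [hfac, h1, mul_one]
          exact hA2
      · obtain ⟨m, χ', hm, hfac, hχ', hχ'0, hχ'u, hcop, hcop2⟩ :=
          step_UB bar hbar2 hχ hχ0 hχu hirr hmon hdvd hfix
        obtain ⟨hB1, μ, hμ, hB2⟩ := blockB (p := p) hp hq2 hK bar hbar hirr hmon h0 hcop2 m
        obtain ⟨hum, -, hudeg, -⟩ := utilde_props bar hbar2 h hmon h0
        have hdeg : χ.natDegree = m * (2 * h.natDegree) + χ'.natDegree := by
          rw [hfac, ((hmon.mul hum).pow m).natDegree_mul hχ', (hmon.mul hum).natDegree_pow,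
            hmon.natDegree_mul hum, hudeg]
          ring
        have hlt : χ'.natDegree < d := by
          rw [← hd, hdeg]
          have : 0 < m * (2 * h.natDegree) := Nat.mul_pos hm (by omega)
          omega
        obtain ⟨ℓ', hg', hdim', hdvd', -⟩ := ih _ hlt χ' rfl hχ' hχ'0 hχ'u
        refine ⟨(2 * h.natDegree, m) :: ℓ', Good_cons (by show 1 ≤ 2 * h.natDegree; omega) hm hg',
          ?_, ?_, ?_⟩
        · rw [dimB_cons, hdim', ← hd, hdeg]
          show 2 * h.natDegree * m + _ = _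
          ring
        · obtain ⟨e1, e2⟩ := exp_dvd (q := q) hp (2 * h.natDegree, m) ℓ'
          rw [hfac]
          exact hcop.mul_dvd (hB1.trans (X_pow_sub_one_dvd' e1)) (hdvd'.trans (X_pow_sub_one_dvd' e2))
        · intro n m0 hl
          rw [List.cons.injEq] at hl
          obtain ⟨hb, hl'⟩ := hl
          rw [Prod.mk.injEq] at hb
          obtain ⟨rfl, rfl⟩ := hb
          subst hl'
          have h1 : χ' = 1 := monic_natDegree_zero hχ' (by rw [← hdim']; rfl)
          refine ⟨μ, hμ, ?_⟩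
          rw [hfac, h1, mul_one]
          exact hB2

end Cfsg.Agent.Helper94.Pu
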