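import Mathlib
import Cfsg.Agent.Helper94.Pu.Defs

set_option autoImplicit false
set_option linter.unusedSectionVars false
set_option linter.unusedVariables false

/-!
# (MONO) `Mx p f q d` is nondecreasing in `d ≥ 3`, and (LB) `q ^ (d - 1) - 1 ≤ Mx p f q d`

`Mx p f q d` = (d odd) `q^(d-1) - 1` if `f ≥ 2`, `(p^(d-2)+1) p = p^(d-1) + p` if `f = 1` (then `q = p`);
(d even) `q^(d-1) + 1` if `q > 2`, `4 (2^(d-3)+1) = 2^(d-1) + 4` if `q = 2`.
Unfold `Mx`, split on parity of `d` (then `d + 1` has the other parity), on `2 ≤ f` and `2 < q`;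
when `f = 1`, `q = p`; when `q ≤ 2`: `q = 2 = p`, `f = 1`.  Each case is `q ^ (d - 1) + small ≤ q ^ d - 1`-like.
-/

namespace Cfsg.Agent.Helper94.Pu

/-- basic facts on `p`, `f`, `q = p ^ f` used in (MONO) -/
theorem mono_aux_facts {p f q : ℕ} (hp : p.Prime) (hf : 1 ≤ f) (hq : q = p ^ f) :
    2 ≤ p ∧ p ≤ q ∧ (2 ≤ f → 4 ≤ q) ∧ (¬ 2 ≤ f → q = p) ∧ (¬ 2 < q → q = 2 ∧ p = 2 ∧ ¬ 2 ≤ f) := by
  have hp2 := hp.two_le
  have hqp : p ≤ q := by
    rw [hq]
    calc p = p ^ 1 := (pow_one p).symm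
      _ ≤ p ^ f := Nat.pow_le_pow_right (by omega) hf
  have hf2 : 2 ≤ f → 4 ≤ q := by
    intro h
    rw [hq]
    calc 4 = 2 ^ 2 := by norm_num
      _ ≤ p ^ 2 := Nat.pow_le_pow_left hp2 2
      _ ≤ p ^ f := Nat.pow_le_pow_right (by omega) h
  have hf1 : ¬ 2 ≤ f → q = p := by
    intro h
    have h1 : f = 1 := by omega
    rw [hq, h1, pow_one]
  refine ⟨hp2, hqp, hf2, hf1, ?_⟩
  intro h
  have h2 : ¬ 2 ≤ f := by
    intro h3
    have := hf2 h3
    omega
  refine ⟨by omega, by omega, h2⟩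

theorem Mx_mono_succ {p f q : ℕ} (hp : p.Prime) (hf : 1 ≤ f) (hq : q = p ^ f) {d : ℕ} (hd : 3 ≤ d) :
    Mx p f q d ≤ Mx p f q (d + 1) := by
  obtain ⟨e, rfl⟩ : ∃ e, d = e + 3 := ⟨d - 3, by omega⟩
  obtain ⟨hp2, hqp, hf2, hf1, hq2⟩ := mono_aux_facts hp hf hq
  unfold Mx
  simp only [show e + 3 - 1 = e + 2 from rfl, show e + 3 - 2 = e + 1 from rfl,
    show e + 3 - 3 = e from rfl, show e + 3 + 1 - 1 = e + 3 from rfl,
    show e + 3 + 1 - 2 = e + 2 from rfl, show e + 3 + 1 - 3 = e + 1 from rfl]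
  have hq1 : 1 ≤ q ^ (e + 2) := Nat.one_le_pow _ _ (by omega)
  have hq3 : q ^ (e + 3) = q ^ (e + 2) * q := pow_succ q (e + 2)
  rcases Nat.even_or_odd e with he | he
  · have h1 : Odd (e + 3) := by
      obtain ⟨k, hk⟩ := he
      exact ⟨k + 1, by omega⟩
    have h2 : ¬ Odd (e + 3 + 1) := by
      rw [Nat.not_odd_iff_even]
      obtain ⟨k, hk⟩ := he
      exact ⟨k + 2, by omega⟩
    rw [if_pos h1, if_neg h2]
    by_cases hf' : 2 ≤ f
    · have h4 := hf2 hf'
      rw [if_pos hf', if_pos (by omega)]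
      have h5 : q ^ (e + 2) ≤ q ^ (e + 2) * q := Nat.le_mul_of_pos_right _ (by omega)
      omega
    · rw [if_neg hf']
      have hqp' := hf1 hf'
      by_cases h2q : 2 < q
      · rw [if_pos h2q, hqp']
        have hA : 1 ≤ p ^ (e + 1) := Nat.one_le_pow _ _ (by omega)
        have e3 : p ^ (e + 3) = p ^ (e + 1) * p * p := by
          rw [pow_succ, pow_succ]
        rw [e3]
        calc (p ^ (e + 1) + 1) * p = p ^ (e + 1) * p + p := by ring
          _ ≤ p ^ (e + 1) * p + p ^ (e + 1) * p := by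
            have : p ≤ p ^ (e + 1) * p := Nat.le_mul_of_pos_left _ (by omega)
            omega
          _ = p ^ (e + 1) * p * 2 := by ring
          _ ≤ p ^ (e + 1) * p * p := Nat.mul_le_mul_left _ hp2
          _ ≤ p ^ (e + 1) * p * p + 1 := Nat.le_succ _
      · rw [if_neg h2q]
        obtain ⟨-, hp2', -⟩ := hq2 h2q
        rw [hp2']
        omega
  · have h1 : ¬ Odd (e + 3) := by
      rw [Nat.not_odd_iff_even]
      obtain ⟨k, hk⟩ := he
      exact ⟨k + 2, by omega⟩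
    have h2 : Odd (e + 3 + 1) := by
      obtain ⟨k, hk⟩ := he
      exact ⟨k + 2, by omega⟩
    rw [if_neg h1, if_pos h2]
    by_cases h2q : 2 < q
    · rw [if_pos h2q]
      by_cases hf' : 2 ≤ f
      · rw [if_pos hf', hq3]
        have h5 : q ^ (e + 2) * 3 ≤ q ^ (e + 2) * q := Nat.mul_le_mul_left _ (by omega)
        omega
      · rw [if_neg hf', hf1 hf']
        have h5 : p ^ (e + 2) + 1 ≤ (p ^ (e + 2) + 1) * p := Nat.le_mul_of_pos_right _ (by omega)
        exact h5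
    · rw [if_neg h2q]
      obtain ⟨-, hp2', hf'⟩ := hq2 h2q
      rw [if_neg hf', hp2']
      have e2 : 2 ^ (e + 2) = 2 ^ e * 4 := by
        rw [pow_add]
        norm_num
      have h6 : 1 ≤ 2 ^ e := Nat.one_le_pow _ _ (by norm_num)
      rw [e2]
      omega

theorem Mx_mono {p f q : ℕ} (hp : p.Prime) (hf : 1 ≤ f) (hq : q = p ^ f) {d d' : ℕ} (hd : 3 ≤ d)
    (hdd : d ≤ d') : Mx p f q d ≤ Mx p f q d' := by
  induction d', hdd using Nat.le_induction with
  | base => exact le_refl _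
  | succ n hn ih => exact le_trans ih (Mx_mono_succ hp hf hq (le_trans hd hn))

theorem pow_pred_le_Mx {p f q : ℕ} (hp : p.Prime) (hf : 1 ≤ f) (hq : q = p ^ f) {d : ℕ} (hd : 3 ≤ d) :
    q ^ (d - 1) - 1 ≤ Mx p f q d := by
  obtain ⟨e, rfl⟩ : ∃ e, d = e + 3 := ⟨d - 3, by omega⟩
  obtain ⟨hp2, hqp, hf2, hf1, hq2⟩ := mono_aux_facts hp hf hq
  unfold Mx
  simp only [show e + 3 - 1 = e + 2 from rfl, show e + 3 - 2 = e + 1 from rfl,
    show e + 3 - 3 = e from rfl]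
  by_cases h1 : Odd (e + 3)
  · rw [if_pos h1]
    by_cases hf' : 2 ≤ f
    · rw [if_pos hf']
    · rw [if_neg hf', hf1 hf']
      have e2 : p ^ (e + 2) = p ^ (e + 1) * p := pow_succ p (e + 1)
      rw [e2, add_mul]
      omega
  · rw [if_neg h1]
    by_cases h2q : 2 < q
    · rw [if_pos h2q]
      omega
    · rw [if_neg h2q]
      obtain ⟨hq2', -, -⟩ := hq2 h2q
      rw [hq2']
      have e2 : 2 ^ (e + 2) = 2 ^ e * 4 := by
        rw [pow_add]
        norm_num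
      rw [e2]
      omega

end Cfsg.Agent.Helper94.Pu
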