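import Mathlib
import Cfsg.Agent.Helper94.Pu.Defs
import Cfsg.Agent.Helper94.Pu.P_E1
import Cfsg.Agent.Helper94.Pu.P_MONO
import Cfsg.Agent.Helper94.Pu.P_PP

set_option autoImplicit false
set_option linter.unusedSectionVars false
set_option linter.unusedVariables false

/-!
# (COMB) dimension count for a list of at least two blocks

`S := typesB ℓ`, `m := maxM ℓ`.  Claim: `∑ S + (m - 1) + (if |S| = 1 then ∑ S else 0) ≤ dimB ℓ`.
Pick `b* = (n*, m) ∈ ℓ` of maximal multiplicity (`maxM` is attained as `ℓ ≠ []`); `ℓ` is a permutation of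
`b* :: ℓ'` (`List.perm_cons_erase`), `dimB ℓ = n* * m + dimB ℓ'` and every type of `S` other than `n*` occurs in
`ℓ'`, each block contributing at least its type: `dimB ℓ' ≥ ∑ (S \ {n*})`
(general lemma: `∑ (typesB ℓ') ≤ dimB ℓ'` for `Good ℓ'`, by induction on `ℓ'` using `Finset.sum_insert`/`sum_le`).
If `S = {n*}` then `ℓ' ≠ []` has a block of type `n*`, so `dimB ℓ' ≥ n*`.
`n* * m = n* + n* (m - 1) ≥ n* + (m - 1)`.
Also: basic facts about `maxM`.
-/

namespace Cfsg.Agent.Helper94.Pu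

theorem maxM_pos (ℓ : Blocks) (hg : Good ℓ) (hne : ℓ ≠ []) : 1 ≤ maxM ℓ := by
  cases ℓ with
  | nil => exact absurd rfl hne
  | cons b ℓ' =>
    rw [maxM_cons]
    exact le_trans (hg b (List.mem_cons_self ..)).2 (le_max_left _ _)

theorem le_maxM (ℓ : Blocks) (b : ℕ × ℕ) (hb : b ∈ ℓ) : b.2 ≤ maxM ℓ := by
  induction ℓ with
  | nil => simp at hb
  | cons c ℓ' ih =>
    rw [maxM_cons]
    rcases List.mem_cons.mp hb with rfl | hb'
    · exact le_max_left _ _
    · exact le_trans (ih hb') (le_max_right _ _)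

theorem sum_types_le_dim (ℓ : Blocks) (hg : Good ℓ) : (typesB ℓ).sum id ≤ dimB ℓ := by
  induction ℓ with
  | nil => simp
  | cons b ℓ' ih =>
    have hg' : Good ℓ' := fun c hc => hg c (List.mem_cons_of_mem _ hc)
    have hb := hg b (List.mem_cons_self ..)
    have ih' := ih hg'
    rw [typesB_cons, dimB_cons]
    have h1 : b.1 ≤ b.1 * b.2 := Nat.le_mul_of_pos_right _ hb.2
    by_cases hmem : b.1 ∈ typesB ℓ'
    · rw [Finset.insert_eq_of_mem hmem]
      omega
    · rw [Finset.sum_insert hmem]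
      show b.1 + (typesB ℓ').sum id ≤ b.1 * b.2 + dimB ℓ'
      omega

theorem comb_exists_max (ℓ : Blocks) (hne : ℓ ≠ []) : ∃ b ∈ ℓ, b.2 = maxM ℓ := by
  induction ℓ with
  | nil => exact absurd rfl hne
  | cons c ℓ' ih =>
    rw [maxM_cons]
    by_cases h' : ℓ' = []
    · subst h'
      exact ⟨c, List.mem_cons_self .., by simp⟩
    · obtain ⟨b, hb, hbm⟩ := ih h'
      rcases le_total c.2 (maxM ℓ') with h | h
      · exact ⟨b, List.mem_cons_of_mem _ hb, by rw [max_eq_right h, hbm]⟩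
      · exact ⟨c, List.mem_cons_self .., by rw [max_eq_left h]⟩

theorem comb_dimB_perm {ℓ ℓ' : Blocks} (h : ℓ.Perm ℓ') : dimB ℓ = dimB ℓ' := by
  unfold dimB
  exact (h.map _).sum_eq

theorem comb_typesB_perm {ℓ ℓ' : Blocks} (h : ℓ.Perm ℓ') : typesB ℓ = typesB ℓ' := by
  unfold typesB
  exact List.toFinset_eq_of_perm _ _ (h.map _)

theorem comb_arith {n m : ℕ} (hn : 1 ≤ n) (hm : 1 ≤ m) : n + (m - 1) ≤ n * m := by
  obtain ⟨m', rfl⟩ : ∃ m', m = m' + 1 := ⟨m - 1, by omega⟩
  have : m' ≤ n * m' := Nat.le_mul_of_pos_left _ hn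
  rw [Nat.mul_succ]
  omega

theorem comb (ℓ : Blocks) (hg : Good ℓ) (hlen : 2 ≤ ℓ.length) :
    (typesB ℓ).sum id + (maxM ℓ - 1) + (if (typesB ℓ).card = 1 then (typesB ℓ).sum id else 0)
      ≤ dimB ℓ := by
  have hne : ℓ ≠ [] := by
    intro h
    rw [h] at hlen
    simp at hlen
  obtain ⟨b, hb, hbm⟩ := comb_exists_max ℓ hne
  have hperm : ℓ.Perm (b :: ℓ.erase b) := List.perm_cons_erase hb
  set ℓ' := ℓ.erase b with hℓ'
  have hg' : Good ℓ' := fun c hc => hg c (List.mem_of_mem_erase hc)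
  have hlen' : 1 ≤ ℓ'.length := by
    rw [hℓ', List.length_erase_of_mem hb]
    omega
  have hb12 := hg b hb
  rw [comb_dimB_perm hperm, comb_typesB_perm hperm, ← hbm, dimB_cons, typesB_cons]
  have hsum := sum_types_le_dim ℓ' hg'
  have har := comb_arith hb12.1 hb12.2
  have hT'ne : (typesB ℓ').Nonempty := by
    cases hℓc : ℓ' with
    | nil => rw [hℓc] at hlen'; simp at hlen'
    | cons c t => exact ⟨c.1, by rw [typesB_cons]; exact Finset.mem_insert_self _ _⟩
  by_cases hmem : b.1 ∈ typesB ℓ'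
  · rw [Finset.insert_eq_of_mem hmem]
    split_ifs with hc1
    · -- typesB ℓ' = {b.1}
      obtain ⟨a, ha⟩ := Finset.card_eq_one.1 hc1
      have hba : b.1 = a := by
        rw [ha] at hmem
        exact Finset.mem_singleton.1 hmem
      have hs : (typesB ℓ').sum id = b.1 := by
        rw [ha, Finset.sum_singleton, hba]
        rfl
      rw [hs] at hsum ⊢
      have h2 : b.1 + (b.2 - 1) + b.1 ≤ b.1 * b.2 + b.1 := by omega
      omega
    · omega
  · rw [Finset.sum_insert hmem, Finset.card_insert_of_notMem hmem]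
    have hc : 1 ≤ (typesB ℓ').card := Finset.card_pos.2 hT'ne
    rw [if_neg (by omega)]
    show b.1 + (typesB ℓ').sum id + (b.2 - 1) + 0 ≤ b.1 * b.2 + dimB ℓ'
    omega

end Cfsg.Agent.Helper94.Pu
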