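import Mathlib
import Cfsg.Agent.Helper94.Pu.Defs
import Cfsg.Agent.Helper94.Pu.P_E1
import Cfsg.Agent.Helper94.Pu.P_MONO
import Cfsg.Agent.Helper94.Pu.P_PP

set_option autoImplicit false
set_option linter.unusedSectionVars false
set_option linter.unusedVariables false

/-!
# (T0) all blocks of type 1: `(q + 1) * p ^ clog p m ≤ Mx p f q (m + 1)`, `m ≥ 2`

(You may use the statements of P_E1 / P_MONO / P_PP, which are separate pieces.)
`P := p ^ clog p m`.
* `m = 2`: `P = p` (`pclog_two`).  `Mx (3) = q² - 1 = (q+1)(q-1)` if `f ≥ 2` (then `q ≥ p²`, `q - 1 ≥ p`), and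
  `(p + 1) p` if `f = 1` (`q = p`): equality.
* `m = 3`: `P = 4` (`p = 2`) or `p` (`pclog_three`); `Mx (4) = q³ + 1` if `q > 2`, `= 12` if `q = 2` (equality `3 * 4`).
* `m ≥ 4`: `P ≤ p (m - 1)` (`pclog_le_mul`).  If `q ≥ 3`: `(q + 1) q (m - 1) ≤ q ^ m - 1 ≤ Mx (m+1)`
  (`pow_pred_le_Mx`; induction on `m` from `m = 3`: `2 q (q+1) ≤ q³ - 1` for `q ≥ 3`).  If `q = 2` (`p = 2, f = 1`):
  `Mx (m+1) = 2^m + 2` (`m` even) or `2^m + 4` (`m` odd) and `3 * 2 (m - 1) = 6 (m - 1) ≤ 2^m + 2` for `m ≥ 4`.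
-/

namespace Cfsg.Agent.Helper94.Pu

/-- basic facts on `q = p ^ f` (helper81) -/
theorem T0_basic {p f q : ℕ} (hp : p.Prime) (hf : 1 ≤ f) (hq : q = p ^ f) :
    2 ≤ p ∧ p ≤ q ∧ (2 ≤ f → p * p ≤ q) ∧ (¬ 2 ≤ f → q = p) := by
  refine ⟨hp.two_le, ?_, ?_, ?_⟩
  · rw [hq]
    exact Nat.le_self_pow (by omega) p
  · intro h2
    rw [hq, ← pow_two]
    exact Nat.pow_le_pow_right hp.pos h2
  · intro h2
    have h1 : f = 1 := by omega
    rw [hq, h1, pow_one]

/-- `(q + 1) q (m - 1) + 1 ≤ q ^ m` for `q ≥ 3`, `m ≥ 3` (helper81) -/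
theorem T0_aux1 (q : ℕ) (hq : 3 ≤ q) (m : ℕ) (hm : 3 ≤ m) : (q + 1) * q * (m - 1) + 1 ≤ q ^ m := by
  induction m, hm using Nat.le_induction with
  | base =>
    show (q + 1) * q * 2 + 1 ≤ q ^ 3
    nlinarith [mul_le_mul hq hq (by omega) (by omega)]
  | succ m hm ih =>
    obtain ⟨k, rfl⟩ : ∃ k, m = k + 1 := ⟨m - 1, by omega⟩
    simp only [Nat.add_sub_cancel] at ih ⊢
    have h3 : q ^ 3 ≤ q ^ (k + 1) := Nat.pow_le_pow_right (by omega) hm
    have hq3 : q ^ 3 = q * q * q := by ring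
    have hstep : q ^ (k + 1 + 1) = q * q ^ (k + 1) := by ring
    rw [hstep]
    have hqq : 3 * q ≤ q * q := Nat.mul_le_mul_right q hq
    have hqqq : 3 * (q * q) ≤ q * q * q := by
      have := Nat.mul_le_mul_right (q * q) hq
      calc 3 * (q * q) ≤ q * (q * q) := this
        _ = q * q * q := by ring
    have hqX : 3 * q ^ (k + 1) ≤ q * q ^ (k + 1) := Nat.mul_le_mul_right _ hq
    have hexp : (q + 1) * q * (k + 1) = (q + 1) * q * k + (q * q + q) := by ring
    rw [hexp]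
    omega

/-- `6 (m - 1) ≤ 2 ^ m + 2` for `m ≥ 4` (helper81) -/
theorem T0_aux2 (m : ℕ) (hm : 4 ≤ m) : 6 * (m - 1) ≤ 2 ^ m + 2 := by
  induction m, hm using Nat.le_induction with
  | base => norm_num
  | succ m hm ih =>
    obtain ⟨k, rfl⟩ : ∃ k, m = k + 1 := ⟨m - 1, by omega⟩
    simp only [Nat.add_sub_cancel] at ih ⊢
    have h4 : 2 ^ 4 ≤ 2 ^ (k + 1) := Nat.pow_le_pow_right (by omega) hm
    have hstep : 2 ^ (k + 1 + 1) = 2 * 2 ^ (k + 1) := by ring
    omega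

theorem T0 {p f q : ℕ} (hp : p.Prime) (hf : 1 ≤ f) (hq : q = p ^ f) {m : ℕ} (hm : 2 ≤ m) :
    (q + 1) * p ^ Nat.clog p m ≤ Mx p f q (m + 1) := by
  obtain ⟨hp2, hpq, hf2, hf1⟩ := T0_basic hp hf hq
  rcases (by omega : m = 2 ∨ m = 3 ∨ 4 ≤ m) with rfl | rfl | hm4
  · -- `m = 2`
    rw [pclog_two hp]
    have hodd : Odd (2 + 1) := by decide
    unfold Mx
    rw [if_pos hodd]
    split_ifs with h
    · have h1 := hf2 h
      show (q + 1) * p ≤ q ^ 2 - 1
      have h2 : (q + 1) * p + 1 ≤ q ^ 2 := by nlinarith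
      omega
    · have h1 := hf1 h
      show (q + 1) * p ≤ (p ^ 1 + 1) * p
      rw [h1, pow_one]
  · -- `m = 3`
    rw [pclog_three hp]
    have hodd : ¬ Odd (3 + 1) := by decide
    unfold Mx
    rw [if_neg hodd]
    split_ifs with h2 hq2 hq2
    · -- `p = 2`, `q > 2`
      show (q + 1) * 4 ≤ q ^ 3 + 1
      have hq4 : 4 ≤ q := by
        by_cases hf' : 2 ≤ f
        · have := hf2 hf'
          nlinarith
        · have := hf1 hf'
          omega
      nlinarith [mul_le_mul hq4 hq4 (by omega) (by omega)]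
    · -- `p = 2`, `q = 2`
      have : q = 2 := by omega
      rw [this]
      norm_num
    · show (q + 1) * p ≤ q ^ 3 + 1
      have hq3 : 3 ≤ q := by omega
      nlinarith [mul_le_mul hq3 hq3 (by omega) (by omega), mul_le_mul hpq (le_refl q) (by omega) (by omega)]
    · exfalso
      omega
  · -- `m ≥ 4`
    have hP : p ^ Nat.clog p m ≤ p * (m - 1) := pclog_le_mul hp (by omega)
    by_cases hq3 : 3 ≤ q
    · have h1 : q ^ (m + 1 - 1) - 1 ≤ Mx p f q (m + 1) := pow_pred_le_Mx hp hf hq (by omega)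
      rw [Nat.add_sub_cancel] at h1
      have h2 := T0_aux1 q hq3 m (by omega)
      have h3 : (q + 1) * p ^ Nat.clog p m ≤ (q + 1) * q * (m - 1) := by
        calc (q + 1) * p ^ Nat.clog p m ≤ (q + 1) * (p * (m - 1)) := Nat.mul_le_mul_left _ hP
          _ ≤ (q + 1) * (q * (m - 1)) := Nat.mul_le_mul_left _ (Nat.mul_le_mul_right _ hpq)
          _ = (q + 1) * q * (m - 1) := by ring
      omega
    · have hq2 : q = 2 := by omega
      have hp2' : p = 2 := by omega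
      have hf1' : ¬ 2 ≤ f := by
        intro h
        have := hf2 h
        nlinarith
      have h6 := T0_aux2 m hm4
      have hP' : p ^ Nat.clog p m ≤ 2 * (m - 1) := by rw [hp2'] at hP ⊢; exact hP
      obtain ⟨k, rfl⟩ : ∃ k, m = k + 2 := ⟨m - 2, by omega⟩
      have e1 : k + 2 + 1 - 2 = k + 1 := by omega
      have e2 : k + 2 + 1 - 3 = k := by omega
      have e3 : (2 : ℕ) ^ (k + 2) = 4 * 2 ^ k := by ring
      have e4 : (2 : ℕ) ^ (k + 1) = 2 * 2 ^ k := by ring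
      unfold Mx
      rw [if_neg hf1', if_neg (by omega : ¬ 2 < q), e1, e2, hq2, hp2', e4]
      rw [hp2'] at hP
      rw [e3] at h6
      split_ifs <;> omega

end Cfsg.Agent.Helper94.Pu
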