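import Mathlib
import Cfsg.Agent.Helper94.Pu.Defs
import Cfsg.Agent.Helper94.Pu.P_E1
import Cfsg.Agent.Helper94.Pu.P_MONO
import Cfsg.Agent.Helper94.Pu.P_PP

set_option autoImplicit false
set_option linter.unusedSectionVars false
set_option linter.unusedVariables false

/-!
# (T1) one type `n ≥ 2` (besides possibly type 1): `eN q n * p ^ clog p m ≤ Mx p f q (n + m)`

(You may use the statements of P_E1 / P_MONO / P_PP, which are separate pieces.)  `P := p ^ clog p m`.
* `m = 1`: `P = 1`.  `n` even: `q^n - 1 ≤ Mx (n+1)` (`n + 1` odd: `q^n - 1` resp. `p^n + p`).  `n` odd: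
  `q^n + 1 ≤ Mx (n+1)` (`n+1` even: `q^n + 1` resp. `2^n + 4`).
* `m = 2`: `P = p`.  `n` odd (`n + 2` odd): `p (q^n + 1) ≤ q^(n+1) - 1` if `f ≥ 2` (`q ≥ 2 p`... `q^n (q - p) ≥ p + 1`),
  equality `(p^n + 1) p` if `f = 1`.  `n` even (`n + 2` even): `p (q^n - 1) ≤ q^(n+1) + 1`, resp. `2^(n+1) - 2 ≤ 2^(n+1) + 4`.
* `m = 3`: `P = 4` or `p` (`pclog_three`).  `n` odd (`n+3` even): `q = 2`: equality `4 (2^n + 1)`; `q > 2`:
  `P (q^n + 1) ≤ q^(n+2) + 1`.  `n` even (`n + 3` odd): `P (q^n - 1) ≤ q^(n+2) - 1`, resp. `≤ p^(n+2) + p`.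
* `m ≥ 4`: `P ≤ p (m - 1) ≤ q (m - 1)` and `q (m - 1) (q^n + 1) ≤ q^(n+m-1) - 1 ≤ Mx (n + m)` (`pow_pred_le_Mx`;
  induction on `m` from `m = 4`: `3 q^(n+1) + 3 q ≤ q^(n+3) - 1`, true for `q ≥ 2, n ≥ 2`).
-/

namespace Cfsg.Agent.Helper94.Pu

/-- basic facts on `q = p ^ f` (helper81) -/
theorem T1_basic {p f q : ℕ} (hp : p.Prime) (hf : 1 ≤ f) (hq : q = p ^ f) :
    2 ≤ p ∧ p ≤ q ∧ (2 ≤ f → p * p ≤ q) ∧ (¬ 2 ≤ f → q = p) := by
  refine ⟨hp.two_le, ?_, ?_, ?_⟩
  · rw [hq]
    exact Nat.le_self_pow (by omega) p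
  · intro h2
    rw [hq, ← pow_two]
    exact Nat.pow_le_pow_right hp.pos h2
  · intro h2
    have h1 : f = 1 := by omega
    rw [hq, h1, pow_one]

/-- `q (m - 1) (q ^ n + 1) + 1 ≤ q ^ (n + m - 1)` for `q ≥ 2`, `n ≥ 2`, `m ≥ 4` (helper81) -/
theorem T1_aux1 (q n : ℕ) (hq : 2 ≤ q) (hn : 2 ≤ n) (m : ℕ) (hm : 4 ≤ m) :
    q * (m - 1) * (q ^ n + 1) + 1 ≤ q ^ (n + m - 1) := by
  have hqn : q * q ≤ q ^ n := by
    rw [← pow_two]
    exact Nat.pow_le_pow_right (by omega) hn
  have h4 : 2 * q ≤ q * q := Nat.mul_le_mul_right q hq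
  induction m, hm using Nat.le_induction with
  | base =>
    have e : n + 4 - 1 = n + 3 := by omega
    rw [e]
    have e2 : q ^ (n + 3) = q * q * q * q ^ n := by ring
    rw [e2]
    set X := q ^ n with hX
    have h8 : 4 * (q * X) ≤ q * q * q * X := by
      have : 4 ≤ q * q := by nlinarith
      calc 4 * (q * X) ≤ q * q * (q * X) := Nat.mul_le_mul_right _ this
        _ = q * q * q * X := by ring
    have h9 : 4 * q ≤ q * X := by
      calc 4 * q = q * 4 := by ring
        _ ≤ q * X := Nat.mul_le_mul_left _ (by nlinarith)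
    have e3 : q * (4 - 1) * (X + 1) = 3 * (q * X) + 3 * q := by
      show q * 3 * (X + 1) = _
      ring
    rw [e3]
    omega
  | succ m hm ih =>
    obtain ⟨k, rfl⟩ : ∃ k, m = k + 1 := ⟨m - 1, by omega⟩
    have e1 : n + (k + 1) - 1 = n + k := by omega
    have e2 : n + (k + 1 + 1) - 1 = n + k + 1 := by omega
    have e3 : k + 1 - 1 = k := by omega
    have e4 : k + 1 + 1 - 1 = k + 1 := by omega
    rw [e1, e3] at ih
    rw [e2, e4]
    have e5 : q ^ (n + k + 1) = q * q ^ (n + k) := by ring
    rw [e5]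
    set X := q ^ n with hX
    set Y := q ^ (n + k) with hY
    have hXY : q * q * q * X ≤ Y := by
      have : q ^ (n + 3) ≤ q ^ (n + k) := Nat.pow_le_pow_right (by omega) (by omega)
      calc q * q * q * X = q ^ (n + 3) := by rw [hX]; ring
        _ ≤ Y := this
    have h2Y : 2 * Y ≤ q * Y := Nat.mul_le_mul_right _ hq
    have e6 : q * (k + 1) * (X + 1) = q * k * (X + 1) + (q * X + q) := by ring
    rw [e6]
    have h8 : 4 * (q * X) ≤ q * q * q * X := by
      have : 4 ≤ q * q := by nlinarith
      calc 4 * (q * X) ≤ q * q * (q * X) := Nat.mul_le_mul_right _ this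
        _ = q * q * q * X := by ring
    have h9 : q ≤ q * X := Nat.le_mul_of_pos_right _ (by nlinarith)
    omega

theorem T1 {p f q : ℕ} (hp : p.Prime) (hf : 1 ≤ f) (hq : q = p ^ f) {n m : ℕ} (hn : 2 ≤ n)
    (hm : 1 ≤ m) : eN q n * p ^ Nat.clog p m ≤ Mx p f q (n + m) := by
  obtain ⟨hp2, hpq, hf2, hf1⟩ := T1_basic hp hf hq
  have hq2 : 2 ≤ q := le_trans hp2 hpq
  have hqn : q * q ≤ q ^ n := by
    rw [← pow_two]
    exact Nat.pow_le_pow_right (by omega) hn
  have h4 : 2 * q ≤ q * q := Nat.mul_le_mul_right q hq2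
  rcases (by omega : m = 1 ∨ m = 2 ∨ m = 3 ∨ 4 ≤ m) with rfl | rfl | rfl | hm4
  · -- `m = 1`
    rw [pclog_one, mul_one]
    rcases Nat.even_or_odd n with he | ho
    · have hodd : Odd (n + 1) := he.add_one
      unfold Mx eN
      rw [if_pos hodd, if_pos he, Nat.add_sub_cancel]
      split_ifs with h
      · exact le_refl _
      · have h1 := hf1 h
        have e : n + 1 - 2 = n - 1 := by omega
        rw [e, h1]
        have e2 : p ^ n = p ^ (n - 1) * p := by
          rw [← pow_succ]
          congr 1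
          omega
        rw [e2, add_mul]
        omega
    · have hev : ¬ Odd (n + 1) := by
        rw [Nat.not_odd_iff_even]
        exact ho.add_one
      have hne : ¬ Even n := Nat.not_even_iff_odd.2 ho
      unfold Mx eN
      rw [if_neg hev, if_neg hne, Nat.add_sub_cancel]
      split_ifs with h
      · exact le_refl _
      · have h1 : q = 2 := by omega
        obtain ⟨k, rfl⟩ : ∃ k, n = k + 2 := ⟨n - 2, by omega⟩
        have e : k + 2 + 1 - 3 = k := by omega
        rw [e, h1]
        have e2 : (2 : ℕ) ^ (k + 2) = 4 * 2 ^ k := by ring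
        omega
  · -- `m = 2`
    rw [pclog_two hp]
    rcases Nat.even_or_odd n with he | ho
    · have hev : ¬ Odd (n + 2) := by
        rw [Nat.not_odd_iff_even]
        exact he.add (by decide)
      unfold Mx eN
      rw [if_neg hev, if_pos he]
      have e : n + 2 - 1 = n + 1 := by omega
      rw [e]
      split_ifs with h
      · have e2 : q ^ (n + 1) = q * q ^ n := by ring
        rw [e2]
        calc (q ^ n - 1) * p ≤ q ^ n * p := Nat.mul_le_mul_right _ (Nat.sub_le _ _)
          _ = p * q ^ n := by ring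
          _ ≤ q * q ^ n := Nat.mul_le_mul_right _ hpq
          _ ≤ q * q ^ n + 1 := Nat.le_succ _
      · have h1 : q = 2 := by omega
        have h1p : p = 2 := by omega
        obtain ⟨k, rfl⟩ : ∃ k, n = k + 1 := ⟨n - 1, by omega⟩
        have e3 : k + 1 + 2 - 3 = k := by omega
        rw [e3, h1, h1p]
        have e2 : (2 : ℕ) ^ (k + 1) = 2 * 2 ^ k := by ring
        rw [e2]
        have : 1 ≤ 2 ^ k := Nat.one_le_two_pow
        omega
    · have hodd : Odd (n + 2) := ho.add_even (by decide)
      have hne : ¬ Even n := Nat.not_even_iff_odd.2 ho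
      unfold Mx eN
      rw [if_pos hodd, if_neg hne]
      have e : n + 2 - 1 = n + 1 := by omega
      have e' : n + 2 - 2 = n := by omega
      rw [e, e']
      split_ifs with h
      · have h1 := hf2 h
        have e2 : q ^ (n + 1) = q * q ^ n := by ring
        rw [e2]
        set X := q ^ n with hX
        have h2 : p * p * X ≤ q * X := Nat.mul_le_mul_right _ h1
        have h3 : 2 * (p * X) ≤ p * p * X := by
          calc 2 * (p * X) ≤ p * (p * X) := Nat.mul_le_mul_right _ hp2
            _ = p * p * X := by ring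
        have h5 : p + 1 ≤ p * X := by
          have : 4 ≤ X := by nlinarith
          nlinarith
        have e3 : (X + 1) * p = p * X + p := by ring
        rw [e3]
        omega
      · have h1 := hf1 h
        rw [h1]
  · -- `m = 3`
    have hP : p ^ Nat.clog p 3 ≤ q * q := by
      have := pclog_le_pow hp hf hq (m := 3) (by omega)
      simpa [pow_two] using this
    rcases Nat.even_or_odd n with he | ho
    · -- `n` even: `P ≤ q ^ 2` suffices
      have h1 : q ^ (n + 3 - 1) - 1 ≤ Mx p f q (n + 3) := pow_pred_le_Mx hp hf hq (by omega)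
      have e : n + 3 - 1 = n + 2 := by omega
      rw [e] at h1
      have e2 : q ^ (n + 2) = q * q * q ^ n := by ring
      rw [e2] at h1
      refine le_trans ?_ h1
      unfold eN
      rw [if_pos he]
      set X := q ^ n with hX
      have hX1 : 1 ≤ X := by nlinarith
      have h2 : (X - 1) * p ^ Nat.clog p 3 ≤ (X - 1) * (q * q) := Nat.mul_le_mul_left _ hP
      have h3 : (X - 1) * (q * q) + q * q = q * q * X := by
        obtain ⟨Y, hY⟩ : ∃ Y, X = Y + 1 := ⟨X - 1, by omega⟩
        rw [hY, Nat.add_sub_cancel]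
        ring
      have h44 : 4 ≤ q * q := by nlinarith
      omega
    · -- `n` odd
      have hev : ¬ Odd (n + 3) := by
        rw [Nat.not_odd_iff_even]
        exact ho.add_odd (by decide)
      have hne : ¬ Even n := Nat.not_even_iff_odd.2 ho
      unfold Mx eN
      rw [if_neg hev, if_neg hne]
      have e : n + 3 - 1 = n + 2 := by omega
      have e' : n + 3 - 3 = n := by omega
      rw [e, e']
      split_ifs with h
      · -- `q > 2`: `P ≤ q`
        have hPq : p ^ Nat.clog p 3 ≤ q := by
          rw [pclog_three hp]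
          split_ifs with hp2'
          · by_cases hf' : 2 ≤ f
            · have := hf2 hf'
              nlinarith
            · have := hf1 hf'
              omega
          · exact hpq
        have e2 : q ^ (n + 2) = q * q * q ^ n := by ring
        rw [e2]
        set X := q ^ n with hX
        have h2 : (X + 1) * p ^ Nat.clog p 3 ≤ (X + 1) * q := Nat.mul_le_mul_left _ hPq
        have h3 : 2 * (q * X) ≤ q * q * X := by
          calc 2 * (q * X) ≤ q * (q * X) := Nat.mul_le_mul_right _ hq2
            _ = q * q * X := by ring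
        have h5 : q ≤ q * X := Nat.le_mul_of_pos_right _ (by nlinarith)
        have e3 : (X + 1) * q = q * X + q := by ring
        rw [e3] at h2
        omega
      · have h1 : q = 2 := by omega
        have h1p : p = 2 := by omega
        rw [pclog_three hp, if_pos h1p, h1]
        ring_nf
        exact le_refl _
  · -- `m ≥ 4`
    have hP : p ^ Nat.clog p m ≤ p * (m - 1) := pclog_le_mul hp (by omega)
    have h1 : q ^ (n + m - 1) - 1 ≤ Mx p f q (n + m) := pow_pred_le_Mx hp hf hq (by omega)
    have h2 := T1_aux1 q n hq2 hn m hm4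
    have h3 : eN q n * p ^ Nat.clog p m ≤ q * (m - 1) * (q ^ n + 1) := by
      calc eN q n * p ^ Nat.clog p m ≤ (q ^ n + 1) * (p * (m - 1)) :=
            Nat.mul_le_mul (eN_le q n) hP
        _ ≤ (q ^ n + 1) * (q * (m - 1)) :=
            Nat.mul_le_mul_left _ (Nat.mul_le_mul_right _ hpq)
        _ = q * (m - 1) * (q ^ n + 1) := by ring
    omega

end Cfsg.Agent.Helper94.Pu
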