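import Mathlib
import Cfsg.Agent.Helper94.Pu.Defs
import Cfsg.Agent.Helper94.Pu.P_E1
import Cfsg.Agent.Helper94.Pu.P_MONO
import Cfsg.Agent.Helper94.Pu.P_PP

set_option autoImplicit false
set_option linter.unusedSectionVars false
set_option linter.unusedVariables false

/-!
# (T2A) `lcm_{n ∈ T} eN q n ≤ (q + 1) * ∏_{n ∈ T} (eN q n / (q + 1))` for nonempty `T`

(You may use `succ_dvd_eN` of P_E1.)  `Finset.induction_on` (or `Finset.Nonempty.cons_induction`): singleton:
equality (`Nat.mul_div_cancel'`).  Step `insert n T`, `T` nonempty: `q + 1` divides `L := T.lcm (eN q)` (it divides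
`eN q n₀` for some `n₀ ∈ T`, which divides `L`: `Finset.dvd_lcm`) and `eN q n`, so `q + 1 ∣ gcd`,
`lcm (eN q n) L = eN q n * L / gcd ≤ eN q n * L / (q + 1) = (eN q n / (q + 1)) * L`.
-/

namespace Cfsg.Agent.Helper94.Pu

theorem T2A {q : ℕ} (hq : 2 ≤ q) (T : Finset ℕ) (hT : T.Nonempty) (hpos : ∀ n ∈ T, 1 ≤ n) :
    T.lcm (eN q) ≤ (q + 1) * ∏ n ∈ T, (eN q n / (q + 1)) := by
  induction hT using Finset.Nonempty.cons_induction with
  | singleton a =>
    have ha : 1 ≤ a := hpos a (Finset.mem_singleton_self a)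
    rw [Finset.lcm_singleton, Finset.prod_singleton, Nat.mul_div_cancel' (succ_dvd_eN q a ha)]
    exact le_of_eq (by simp)
  | cons a s has hs ih =>
    have ha : 1 ≤ a := hpos a (Finset.mem_cons_self a s)
    have hposs : ∀ n ∈ s, 1 ≤ n := fun n hn => hpos n (Finset.mem_cons.mpr (Or.inr hn))
    have ih' := ih hposs
    rw [Finset.cons_eq_insert, Finset.lcm_insert, Finset.prod_insert has]
    set L := s.lcm (eN q) with hL
    -- `q + 1` divides both
    have hda : q + 1 ∣ eN q a := succ_dvd_eN q a ha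
    obtain ⟨n0, hn0⟩ := hs
    have hdL : q + 1 ∣ L := dvd_trans (succ_dvd_eN q n0 (hposs n0 hn0)) (Finset.dvd_lcm hn0)
    have hdg : q + 1 ∣ Nat.gcd (eN q a) L := Nat.dvd_gcd hda hdL
    obtain ⟨t, ht⟩ := hdg
    have hea : eN q a = (q + 1) * (eN q a / (q + 1)) := (Nat.mul_div_cancel' hda).symm
    have hprod : Nat.gcd (eN q a) L * Nat.lcm (eN q a) L = eN q a * L := Nat.gcd_mul_lcm _ _
    have hapos : 0 < eN q a := eN_pos q a hq ha
    have hgpos : 0 < Nat.gcd (eN q a) L := Nat.gcd_pos_of_pos_left _ hapos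
    have htpos : 0 < t := by
      rcases Nat.eq_zero_or_pos t with h | h
      · rw [h, mul_zero] at ht; omega
      · exact h
    have h1 : t * Nat.lcm (eN q a) L = (eN q a / (q + 1)) * L := by
      have h2 : (q + 1) * (t * Nat.lcm (eN q a) L) = (q + 1) * ((eN q a / (q + 1)) * L) := by
        calc (q + 1) * (t * Nat.lcm (eN q a) L) = ((q + 1) * t) * Nat.lcm (eN q a) L := by ring
          _ = eN q a * L := by rw [← ht, hprod]
          _ = ((q + 1) * (eN q a / (q + 1))) * L := by rw [← hea]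
          _ = (q + 1) * ((eN q a / (q + 1)) * L) := by ring
      exact Nat.eq_of_mul_eq_mul_left (by omega) h2
    have h3 : Nat.lcm (eN q a) L ≤ (eN q a / (q + 1)) * L := by
      rw [← h1]
      exact Nat.le_mul_of_pos_left _ htpos
    calc GCDMonoid.lcm (eN q a) L = Nat.lcm (eN q a) L := rfl
      _ ≤ (eN q a / (q + 1)) * L := h3
      _ ≤ (eN q a / (q + 1)) * ((q + 1) * ∏ n ∈ s, (eN q n / (q + 1))) :=
          Nat.mul_le_mul_left _ ih'
      _ = (q + 1) * ((eN q a / (q + 1)) * ∏ n ∈ s, (eN q n / (q + 1))) := by ring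

end Cfsg.Agent.Helper94.Pu
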