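import Mathlib
import Cfsg.Agent.Helper94.Pu.Defs
import Cfsg.Agent.Helper94.Pu.P_E1
import Cfsg.Agent.Helper94.Pu.P_MONO
import Cfsg.Agent.Helper94.Pu.P_PP

set_option autoImplicit false
set_option linter.unusedSectionVars false
set_option linter.unusedVariables false

/-!
# (T2B) `(q + 1) * ∏_{n ∈ T} (eN q n / (q + 1)) ≤ q ^ (∑ T - 1) - 1` for `|T| ≥ 2`, all `n ≥ 2`

(You may use P_E1.)  Two elements `a < b` (`a ≥ 2, b ≥ 3`): `(q + 1) x(a) x(b) = eN q a * eN q b / (q + 1)` and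
`eN q a * eN q b ≤ (q^a + 1)(q^b + 1) ≤ (q + 1)(q^(a+b-1) - 1)` because `q^a + q^b + q + 2 ≤ q^(a+b-1)`
(`a + b - 1 ≥ b + 1`, `q^a ≤ q^(b-1)`, `q^(b-1) (q² - q - 1) ≥ q + 2` as `b - 1 ≥ 2`, `q ≥ 2`).
More elements: induction (e.g. `Finset.induction_on` on the statement
`∀ T, (∀ n ∈ T, 2 ≤ n) → 2 ≤ T.card → …`, removing one element while `card ≥ 3`): multiplying by
`x(n) ≤ q ^ (n - 1)` (`eN_div_le'`): `(q^(σ-1) - 1) q^(n-1) ≤ q^(σ+n-1) - 1`.
-/

namespace Cfsg.Agent.Helper94.Pu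

/-- the key inequality of the two-element case -/
theorem T2B_key {q : ℕ} (hq : 2 ≤ q) (a b : ℕ) (ha : 2 ≤ a) (hab : a < b) :
    (q ^ a + 1) * (q ^ b + 1) ≤ (q + 1) * (q ^ (a + b - 1) - 1) := by
  obtain ⟨a', rfl⟩ : ∃ a', a = a' + 1 := ⟨a - 1, by omega⟩
  obtain ⟨d, rfl⟩ : ∃ d, b = a' + 1 + 1 + d := ⟨b - (a' + 1 + 1), by omega⟩
  have hexp : a' + 1 + (a' + 1 + 1 + d) - 1 = a' + (a' + 1 + 1 + d) := by omega
  rw [hexp]
  set C := q ^ a' with hC
  set B := q ^ (a' + 1 + 1 + d) with hB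
  have hA : q ^ (a' + 1) = q * C := by rw [hC, pow_succ]; ring
  have hCB : q ^ (a' + (a' + 1 + 1 + d)) = C * B := by rw [hC, hB, ← pow_add]
  rw [hA, hCB]
  have hCq : q ≤ C := by
    calc q = q ^ 1 := (pow_one q).symm
      _ ≤ q ^ a' := Nat.pow_le_pow_right (by omega) (by omega)
  have hBA : q * (q * C) ≤ B := by
    have : B = q ^ d * (q * (q * C)) := by
      rw [hB, hC]; ring
    rw [this]
    exact Nat.le_mul_of_pos_left _ (by positivity)
  -- `q * C + B + q + 2 ≤ C * B`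
  have hq2 : q + 2 ≤ q * C := by nlinarith
  have h1 : q * C + B + q + 2 ≤ C * B := by nlinarith
  have h2 : (q * C + 1) * (B + 1) + (q + 1) ≤ (q + 1) * (C * B) := by nlinarith
  have h3 : (q + 1) * (C * B - 1) = (q + 1) * (C * B) - (q + 1) := by
    rw [Nat.mul_sub, mul_one]
  rw [h3]
  exact Nat.le_sub_of_add_le h2

/-- the two-element case -/
theorem T2B_two {q : ℕ} (hq : 2 ≤ q) (a b : ℕ) (ha : 2 ≤ a) (hab : a < b) :
    (q + 1) * ((eN q a / (q + 1)) * (eN q b / (q + 1))) ≤ q ^ (a + b - 1) - 1 := by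
  have hda : q + 1 ∣ eN q a := succ_dvd_eN q a (by omega)
  have hdb : q + 1 ∣ eN q b := succ_dvd_eN q b (by omega)
  have hea : (q + 1) * (eN q a / (q + 1)) = eN q a := Nat.mul_div_cancel' hda
  have heb : (q + 1) * (eN q b / (q + 1)) = eN q b := Nat.mul_div_cancel' hdb
  have h1 : (q + 1) * ((q + 1) * ((eN q a / (q + 1)) * (eN q b / (q + 1)))) = eN q a * eN q b := by
    calc (q + 1) * ((q + 1) * ((eN q a / (q + 1)) * (eN q b / (q + 1))))
        = ((q + 1) * (eN q a / (q + 1))) * ((q + 1) * (eN q b / (q + 1))) := by ring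
      _ = eN q a * eN q b := by rw [hea, heb]
  have h2 : eN q a * eN q b ≤ (q ^ a + 1) * (q ^ b + 1) :=
    Nat.mul_le_mul (eN_le q a) (eN_le q b)
  have h3 := T2B_key hq a b ha hab
  have h4 : (q + 1) * ((q + 1) * ((eN q a / (q + 1)) * (eN q b / (q + 1)))) ≤
      (q + 1) * (q ^ (a + b - 1) - 1) := by
    rw [h1]; exact le_trans h2 h3
  exact Nat.le_of_mul_le_mul_left h4 (by omega)

theorem T2B {q : ℕ} (hq : 2 ≤ q) (T : Finset ℕ) (hT : ∀ n ∈ T, 2 ≤ n) (hcard : 2 ≤ T.card) :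
    (q + 1) * ∏ n ∈ T, (eN q n / (q + 1)) ≤ q ^ (T.sum id - 1) - 1 := by
  induction T using Finset.induction_on with
  | empty => simp at hcard
  | insert a s has ih =>
    have ha : 2 ≤ a := hT a (Finset.mem_insert_self a s)
    have hTs : ∀ n ∈ s, 2 ≤ n := fun n hn => hT n (Finset.mem_insert_of_mem hn)
    rw [Finset.card_insert_of_notMem has] at hcard
    rw [Finset.prod_insert has, Finset.sum_insert has]
    simp only [id_eq]
    by_cases hs2 : 2 ≤ s.card
    · -- inductive step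
      have ih' := ih hTs hs2
      have hxa : eN q a / (q + 1) ≤ q ^ (a - 1) := eN_div_le' q a hq (by omega)
      set σ := s.sum id with hσ
      have hσ2 : 2 ≤ σ := by
        obtain ⟨n0, hn0⟩ := Finset.card_pos.mp (by omega : 0 < s.card)
        calc 2 ≤ n0 := hTs n0 hn0
          _ = id n0 := rfl
          _ ≤ s.sum id := Finset.single_le_sum (fun _ _ => Nat.zero_le _) hn0
      have hpow : q ^ (a + σ - 1) = q ^ (a - 1) * q ^ (σ - 1) * q := by
        rw [← pow_add, ← pow_succ]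
        congr 1
        omega
      have hp1 : 1 ≤ q ^ (a - 1) := Nat.one_le_pow _ _ (by omega)
      have hp2 : 1 ≤ q ^ (σ - 1) := Nat.one_le_pow _ _ (by omega)
      calc (q + 1) * ((eN q a / (q + 1)) * ∏ n ∈ s, (eN q n / (q + 1)))
          = (eN q a / (q + 1)) * ((q + 1) * ∏ n ∈ s, (eN q n / (q + 1))) := by ring
        _ ≤ q ^ (a - 1) * (q ^ (σ - 1) - 1) := Nat.mul_le_mul hxa ih'
        _ ≤ q ^ (a + σ - 1) - 1 := by
          rw [hpow]
          apply Nat.le_sub_of_add_le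
          have h5 : q ^ (a - 1) * (q ^ (σ - 1) - 1) + q ^ (a - 1) = q ^ (a - 1) * q ^ (σ - 1) := by
            rw [← Nat.mul_succ, Nat.succ_eq_add_one, Nat.sub_add_cancel hp2]
          have h6 : q ^ (a - 1) * q ^ (σ - 1) ≤ q ^ (a - 1) * q ^ (σ - 1) * q :=
            Nat.le_mul_of_pos_right _ (by omega)
          omega
    · -- two elements
      have hs1 : s.card = 1 := by omega
      obtain ⟨b, rfl⟩ := Finset.card_eq_one.mp hs1
      have hb : 2 ≤ b := hTs b (Finset.mem_singleton_self b)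
      have hne : a ≠ b := fun h => has (by rw [h]; exact Finset.mem_singleton_self b)
      rw [Finset.prod_singleton, Finset.sum_singleton]
      rcases lt_or_gt_of_ne hne with h | h
      · exact T2B_two hq a b ha h
      · have := T2B_two hq b a hb h
        rw [mul_comm (eN q a / (q + 1)), add_comm a b]
        exact this

end Cfsg.Agent.Helper94.Pu
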