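import Mathlib
import Cfsg.Agent.Helper94.Pu.Defs
import Cfsg.Agent.Helper94.Pu.P_E1
import Cfsg.Agent.Helper94.Pu.P_MONO
import Cfsg.Agent.Helper94.Pu.P_PP
import Cfsg.Agent.Helper94.Pu.P_T0
import Cfsg.Agent.Helper94.Pu.P_T1
import Cfsg.Agent.Helper94.Pu.P_T2A
import Cfsg.Agent.Helper94.Pu.P_T2B
import Cfsg.Agent.Helper94.Pu.P_COMB

set_option autoImplicit false
set_option linter.unusedSectionVars false
set_option linter.unusedVariables false

/-!
# (AM) glue: at least two blocks ⟹ `lcmB q ℓ * ppow p ℓ ≤ Mx p f q d`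

Use the STATEMENTS of the other pieces (P_E1, P_MONO, P_PP, P_T0, P_T1, P_T2A, P_T2B, P_COMB; they are
being filled in parallel).  `S := typesB ℓ` (nonempty), `m := maxM ℓ ≥ 1` (`maxM_pos`), `P := p ^ clog p m`,
`T := S.erase 1`, `U := comb ℓ hg hlen : ∑ S + (m - 1) + (if |S| = 1 then ∑ S else 0) ≤ d`.
`lcmB q ℓ = S.lcm (eN q)`.
* `T = ∅`: `S = {1}`, `lcm = eN q 1 = q + 1`, `U`: `m + 1 ≤ d`.  If `m = 1`: `P = 1`, `q + 1 ≤ q² - 1 ≤ q^(d-1) - 1 ≤ Mx`
  (`pow_pred_le_Mx`).  If `m ≥ 2`: `T0` and `Mx_mono`.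
* `T = {n}` (`n ≥ 2`): `S = {n}` or `S = {1, n}`; in both cases `S.lcm (eN q) = eN q n` (`succ_dvd_eN`, `eN_one`) and `U`
  gives `n + m ≤ d`; `T1` and `Mx_mono` (`n + m ≥ 3`).
* `|T| ≥ 2`: `S.lcm (eN q) = T.lcm (eN q)` (if `1 ∈ S`: `S = insert 1 T`, `eN q 1 = q + 1` divides `T.lcm`) `≤ q ^ (∑ T - 1) - 1`
  (`T2A`, `T2B`), `P ≤ q ^ (m - 1)` (`pclog_le_pow`), `∑ T + (m - 1) ≤ ∑ S + (m - 1) ≤ d`, so
  `lcm * P ≤ (q ^ (∑ T - 1) - 1) * q ^ (m - 1) ≤ q ^ (d - 1) - 1 ≤ Mx` (`pow_pred_le_Mx`).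
-/

namespace Cfsg.Agent.Helper94.Pu

theorem AM_mem_typesB {ℓ : Blocks} {n : ℕ} (hn : n ∈ typesB ℓ) : ∃ b ∈ ℓ, b.1 = n := by
  unfold typesB at hn
  rw [List.mem_toFinset, List.mem_map] at hn
  exact hn

theorem AM_two_le_q {p f q : ℕ} (hp : p.Prime) (hf : 1 ≤ f) (hq : q = p ^ f) : 2 ≤ q := by
  rw [hq]
  calc 2 ≤ p := hp.two_le
    _ = p ^ 1 := (pow_one p).symm
    _ ≤ p ^ f := Nat.pow_le_pow_right hp.pos hf

theorem AM_lcm_of_dvd {a b : ℕ} (h : a ∣ b) : GCDMonoid.lcm a b = b :=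
  (lcm_eq_right_iff a b (normalize_eq b)).2 h

theorem AM_lcm_insert_one {q : ℕ} (T : Finset ℕ) (hT : T.Nonempty) (hpos : ∀ n ∈ T, 1 ≤ n) :
    (insert 1 T).lcm (eN q) = T.lcm (eN q) := by
  rw [Finset.lcm_insert]
  obtain ⟨n, hn⟩ := hT
  have h1 : eN q 1 ∣ T.lcm (eN q) := by
    rw [eN_one]
    exact dvd_trans (succ_dvd_eN q n (hpos n hn)) (Finset.dvd_lcm hn)
  exact AM_lcm_of_dvd h1

theorem AM_sub_one_mul_le {A B C : ℕ} (hB : 1 ≤ B) (hAB : A * B ≤ C) : (A - 1) * B ≤ C - 1 := by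
  rcases Nat.eq_zero_or_pos A with hA | hA
  · subst hA; simp
  · have h1 : (A - 1) * B + B = A * B := by
      rw [← Nat.succ_mul]
      congr 1
      omega
    omega

theorem AM_case_empty {p f q d m : ℕ} (hp : p.Prime) (hf : 1 ≤ f) (hq : q = p ^ f) (hd : 3 ≤ d)
    (hm : 1 ≤ m) (hU : m + 1 ≤ d) : (q + 1) * p ^ Nat.clog p m ≤ Mx p f q d := by
  have hq2 : 2 ≤ q := AM_two_le_q hp hf hq
  rcases Nat.lt_or_ge m 2 with h | h
  · have hm1 : m = 1 := by omega
    rw [hm1, pclog_one, mul_one]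
    refine le_trans ?_ (pow_pred_le_Mx hp hf hq hd)
    have h2 : q ^ 2 ≤ q ^ (d - 1) := Nat.pow_le_pow_right (by omega) (by omega)
    have h3 : q + 2 ≤ q ^ 2 := by nlinarith
    omega
  · exact le_trans (T0 hp hf hq h) (Mx_mono hp hf hq (by omega) hU)

theorem AM_case_single {p f q d m n : ℕ} (hp : p.Prime) (hf : 1 ≤ f) (hq : q = p ^ f)
    (hn : 2 ≤ n) (hm : 1 ≤ m) (hU : n + m ≤ d) :
    eN q n * p ^ Nat.clog p m ≤ Mx p f q d :=
  le_trans (T1 hp hf hq hn hm) (Mx_mono hp hf hq (by omega) hU)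

theorem AM_case_multi {p f q d m : ℕ} (hp : p.Prime) (hf : 1 ≤ f) (hq : q = p ^ f) (hd : 3 ≤ d)
    (hm : 1 ≤ m) (T : Finset ℕ) (hT2 : ∀ n ∈ T, 2 ≤ n) (hcard : 2 ≤ T.card)
    (hU : T.sum id + (m - 1) ≤ d) :
    T.lcm (eN q) * p ^ Nat.clog p m ≤ Mx p f q d := by
  have hq2 : 2 ≤ q := AM_two_le_q hp hf hq
  have hTne : T.Nonempty := by
    rw [← Finset.card_pos]; omega
  have h1 : T.lcm (eN q) ≤ q ^ (T.sum id - 1) - 1 :=
    le_trans (T2A hq2 T hTne (fun n hn => by have := hT2 n hn; omega)) (T2B hq2 T hT2 hcard)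
  have h2 : p ^ Nat.clog p m ≤ q ^ (m - 1) := pclog_le_pow hp hf hq hm
  have hsum : 4 ≤ T.sum id := by
    have : T.card • 2 ≤ T.sum id := Finset.card_nsmul_le_sum T id 2 (fun n hn => hT2 n hn)
    rw [smul_eq_mul] at this
    omega
  refine le_trans (Nat.mul_le_mul h1 h2) ?_
  refine le_trans ?_ (pow_pred_le_Mx hp hf hq hd)
  apply AM_sub_one_mul_le (Nat.one_le_pow _ _ (by omega))
  rw [← pow_add]
  exact Nat.pow_le_pow_right (by omega) (by omega)

theorem arith_multi {p f q d : ℕ} (hp : p.Prime) (hf : 1 ≤ f) (hq : q = p ^ f) (hd : 3 ≤ d)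
    (ℓ : Blocks) (hg : Good ℓ) (hdim : dimB ℓ = d) (hlen : 2 ≤ ℓ.length) :
    lcmB q ℓ * ppow p ℓ ≤ Mx p f q d := by
  have hq2 : 2 ≤ q := AM_two_le_q hp hf hq
  have hne : ℓ ≠ [] := by
    intro h
    rw [h] at hlen
    simp at hlen
  have hU := comb ℓ hg hlen
  have hm : 1 ≤ maxM ℓ := maxM_pos ℓ hg hne
  have hSne0 : (typesB ℓ).Nonempty := by
    cases ℓ with
    | nil => exact absurd rfl hne
    | cons b t => rw [typesB_cons]; exact Finset.insert_nonempty _ _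
  have hSpos0 : ∀ n ∈ typesB ℓ, 1 ≤ n := by
    intro n hn
    obtain ⟨b, hb, rfl⟩ := AM_mem_typesB hn
    exact (hg b hb).1
  unfold lcmB ppow
  rw [hdim] at hU
  obtain ⟨S, hS⟩ : ∃ S, S = typesB ℓ := ⟨_, rfl⟩
  obtain ⟨m, hmdef⟩ : ∃ m, m = maxM ℓ := ⟨_, rfl⟩
  rw [← hS] at hU hSne0 hSpos0 ⊢
  rw [← hmdef] at hU hm ⊢
  obtain ⟨T, hT⟩ : ∃ T, T = S.erase 1 := ⟨_, rfl⟩
  have hT2 : ∀ n ∈ T, 2 ≤ n := by
    intro n hn
    rw [hT, Finset.mem_erase] at hn
    have := hSpos0 n hn.2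
    omega
  have hST : S = T ∨ (S = insert 1 T ∧ 1 ∉ T) := by
    by_cases h1 : 1 ∈ S
    · right
      refine ⟨by rw [hT, Finset.insert_erase h1], ?_⟩
      rw [hT]
      exact Finset.notMem_erase 1 S
    · left; rw [hT, Finset.erase_eq_of_notMem h1]
  rcases Nat.lt_or_ge T.card 2 with hc | hc
  · rcases Nat.eq_zero_or_pos T.card with hc0 | hc0
    · -- `S = {1}`
      rw [Finset.card_eq_zero] at hc0
      have hS1 : S = {1} := by
        rcases hST with h | ⟨h, _⟩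
        · rw [h, hc0] at hSne0
          exact absurd hSne0 Finset.not_nonempty_empty
        · rw [h, hc0]
          rfl
      rw [hS1] at hU ⊢
      rw [Finset.lcm_singleton, normalize_eq, eN_one]
      simp only [Finset.sum_singleton, id, Finset.card_singleton, if_true] at hU
      exact AM_case_empty hp hf hq hd hm (by omega)
    · -- `T = {n}`
      have hc1 : T.card = 1 := by omega
      obtain ⟨n, hn⟩ := Finset.card_eq_one.1 hc1
      have hn2 : 2 ≤ n := hT2 n (by rw [hn]; exact Finset.mem_singleton_self n)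
      rcases hST with h | ⟨h, h1⟩
      · rw [h, hn] at hU ⊢
        rw [Finset.lcm_singleton, normalize_eq]
        simp only [Finset.sum_singleton, id, Finset.card_singleton, if_true] at hU
        exact AM_case_single hp hf hq hn2 hm (by omega)
      · have hlcm : S.lcm (eN q) = T.lcm (eN q) := by
          rw [h]
          exact AM_lcm_insert_one T (by rw [hn]; exact Finset.singleton_nonempty n)
            (fun k hk => by have := hT2 k hk; omega)
        rw [hlcm, hn, Finset.lcm_singleton, normalize_eq]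
        have hsum : S.sum id = 1 + n := by
          rw [h, Finset.sum_insert h1, hn, Finset.sum_singleton]
          rfl
        rw [hsum] at hU
        exact AM_case_single hp hf hq hn2 hm (by omega)
  · -- at least two types `≥ 2`
    have hlcm : S.lcm (eN q) = T.lcm (eN q) := by
      rcases hST with h | ⟨h, _⟩
      · rw [h]
      · rw [h]
        exact AM_lcm_insert_one T (by rw [← Finset.card_pos]; omega)
          (fun k hk => by have := hT2 k hk; omega)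
    have hsum : T.sum id ≤ S.sum id := by
      rw [hT]
      exact Finset.sum_le_sum_of_subset (Finset.erase_subset 1 S)
    rw [hlcm]
    exact AM_case_multi hp hf hq hd hm T hT2 hc (by omega)

end Cfsg.Agent.Helper94.Pu
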