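import Mathlib
import Cfsg.Prelude.Def_LieClassical
import Cfsg.Agent.Helper43.GUPrimeB
import Cfsg.Agent.Helper45.GUBasic

set_option autoImplicit false
set_option linter.unusedSectionVars false
set_option linter.unusedVariables false

/-!
# (GR1) the characteristic polynomial of an element of `GU_d(q)` is monic of degree `d`, has nonzero constant
term and is `utilde`-fixed; and the characteristic of `K`

`g ∈ GU d K q`: `Cfsg.Agent.Helper45.GU.mem_GU_iff`/`unitary_of_herm` (in `Helper45/GUBasic.lean`) give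
`gᵀ * g.map bar = 1`; transposing, `(g.map bar)ᵀ * g = 1`, and
`Cfsg.Agent.Helper43.GUPrime.charpoly_st_inv bar A B (hB : (A.map bar)ᵀ * B = 1) : B.charpoly = utilde bar A.charpoly`
with `A := g`, `B := g` gives `g.charpoly = utilde bar g.charpoly`.
Monic: `Matrix.charpoly_monic`; degree: `Matrix.charpoly_natDegree_eq_dim`, `Fintype.card_fin`;
constant term: `Matrix.det_eq_sign_charpoly_coeff` (`det g = (-1)^d * coeff 0`), `det g ≠ 0` as `g` is a unit.
`charP_of_card`: `|K| = q² = p ^ (2 f)`; `ringChar K =: r` is prime with `|K| = r ^ n` (`FiniteField.card`), so `r ∣ p ^ (2f)`,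
`r = p` (`Nat.Prime.eq_one_or_self_of_dvd`/`Nat.prime_dvd_prime_iff_eq`), and `ringChar.charP K`.
-/

namespace Cfsg.Agent.Helper94.Pu

open Polynomial Matrix Cfsg.Agent.Helper43.GUPrime

variable {K : Type*} [Field K] [Fintype K]

theorem charP_of_card {p f q : ℕ} (hp : p.Prime) (hf : 1 ≤ f) (hq : q = p ^ f)
    (hK : Fintype.card K = q ^ 2) : CharP K p := by
  obtain ⟨r, hchar, k, hr, hk⟩ := FiniteField.card' K
  have h1 : r ∣ p ^ (f * 2) := by
    rw [pow_mul, ← hq, ← hK, hk]
    exact dvd_pow_self r k.ne_zero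
  have h2 : r = p := (Nat.prime_dvd_prime_iff_eq hr hp).mp (hr.dvd_of_dvd_pow h1)
  subst h2
  exact hchar

theorem charpoly_props {q : ℕ} (hK : Fintype.card K = q ^ 2) (bar : K →+* K)
    (hbar : ∀ x, bar x = x ^ q) (d : ℕ) (g : ↥(Cfsg.GU d K q)) :
    ((g : GL (Fin d) K) : Matrix (Fin d) (Fin d) K).charpoly.Monic ∧
      ((g : GL (Fin d) K) : Matrix (Fin d) (Fin d) K).charpoly.natDegree = d ∧
      ((g : GL (Fin d) K) : Matrix (Fin d) (Fin d) K).charpoly.coeff 0 ≠ 0 ∧
      utilde bar ((g : GL (Fin d) K) : Matrix (Fin d) (Fin d) K).charpoly =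
        ((g : GL (Fin d) K) : Matrix (Fin d) (Fin d) K).charpoly := by
  set M : Matrix (Fin d) (Fin d) K := ((g : GL (Fin d) K) : Matrix (Fin d) (Fin d) K) with hM
  refine ⟨Matrix.charpoly_monic M, ?_, ?_, ?_⟩
  · rw [Matrix.charpoly_natDegree_eq_dim, Fintype.card_fin]
  · intro h0
    have hdet : M.det ≠ 0 := by
      have hu : IsUnit M := Units.isUnit (g : GL (Fin d) K)
      exact ((Matrix.isUnit_iff_isUnit_det M).mp hu).ne_zero
    apply hdet
    rw [Matrix.det_eq_sign_charpoly_coeff, h0, mul_zero]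
  · have hg := (Cfsg.Agent.Helper45.GU.mem_GU_iff d bar hbar (g : GL (Fin d) K)).mp g.2
    have h1 : Mᵀ * M.map bar = 1 := Cfsg.Agent.Helper45.GU.unitary_of_herm bar M hg
    have h2 : (M.map bar)ᵀ * M = 1 := by
      have := congrArg Matrix.transpose h1
      rwa [Matrix.transpose_mul, Matrix.transpose_transpose, Matrix.transpose_one] at this
    exact (charpoly_st_inv bar (g : GL (Fin d) K) M h2).symm

end Cfsg.Agent.Helper94.Pu
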