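import Mathlib
import Cfsg.Prelude.Def_LieClassical

set_option autoImplicit false
set_option linter.unusedSectionVars false
set_option linter.unusedVariables false

/-!
# (GR2) `charpoly g ∣ X ^ N - C μ` ⟹ the image of `g` in `GU_d(q) / Z` has order at most `N`

Cayley-Hamilton (`Matrix.aeval_self_charpoly`): `aeval g (X ^ N - C μ) = 0`, i.e. `g ^ N = μ • 1` as matrices
(`aeval` of `X ^ N - C μ`: `map_sub, map_pow, aeval_X, aeval_C`, `Algebra.algebraMap_eq_smul_one`).
So the element `g ^ N` of the subgroup `GU d K q` has a scalar matrix, which commutes with every matrix, hence lies in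
`Subgroup.center ↥(GU d K q)` (`Subgroup.mem_center_iff`, compare matrices via `Subtype.ext`, `Units.ext`).
Therefore `(QuotientGroup.mk g) ^ N = 1` (`QuotientGroup.eq_one_iff`) and `orderOf_le_of_pow_eq_one hN`.
-/

namespace Cfsg.Agent.Helper94.Pu

open Polynomial Matrix

variable {K : Type*} [Field K]

theorem pow_eq_smul_of_charpoly_dvd {d : ℕ} (A : Matrix (Fin d) (Fin d) K) {N : ℕ} {μ : K}
    (hdvd : A.charpoly ∣ X ^ N - C μ) : A ^ N = μ • (1 : Matrix (Fin d) (Fin d) K) := by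
  obtain ⟨r, hr⟩ := hdvd
  have h0 : aeval A (X ^ N - C μ : K[X]) = 0 := by
    rw [hr, map_mul, Matrix.aeval_self_charpoly, zero_mul]
  rw [map_sub, map_pow, aeval_X, aeval_C, Algebra.algebraMap_eq_smul_one] at h0
  exact sub_eq_zero.1 h0

theorem order_le_of_dvd {q d : ℕ} (g : ↥(Cfsg.GU d K q)) {N : ℕ} (hN : 0 < N) {μ : K}
    (hdvd : ((g : GL (Fin d) K) : Matrix (Fin d) (Fin d) K).charpoly ∣ X ^ N - C μ) :
    orderOf (QuotientGroup.mk g : ↥(Cfsg.GU d K q) ⧸ Subgroup.center ↥(Cfsg.GU d K q)) ≤ N := by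
  have hpow := pow_eq_smul_of_charpoly_dvd _ hdvd
  have hmat : (((g ^ N : ↥(Cfsg.GU d K q)) : GL (Fin d) K) : Matrix (Fin d) (Fin d) K) =
      μ • (1 : Matrix (Fin d) (Fin d) K) := by
    rw [Subgroup.coe_pow, Units.val_pow_eq_pow_val]
    exact hpow
  have hcen : g ^ N ∈ Subgroup.center ↥(Cfsg.GU d K q) := by
    rw [Subgroup.mem_center_iff]
    intro h
    apply Subtype.ext
    apply Units.ext
    rw [Subgroup.coe_mul, Subgroup.coe_mul, Units.val_mul, Units.val_mul, hmat]
    rw [Matrix.mul_smul, Matrix.smul_mul, Matrix.mul_one, Matrix.one_mul]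
  have h1 : (QuotientGroup.mk g : ↥(Cfsg.GU d K q) ⧸ Subgroup.center ↥(Cfsg.GU d K q)) ^ N = 1 := by
    rw [← QuotientGroup.mk_pow]
    exact (QuotientGroup.eq_one_iff _).2 hcen
  exact orderOf_le_of_pow_eq_one hN h1

end Cfsg.Agent.Helper94.Pu
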