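import Mathlib
import Cfsg.Agent.Helper94.Pu.Defs
import Cfsg.Agent.Helper94.Pu.P_E1
import Cfsg.Agent.Helper94.Pu.P_MONO
import Cfsg.Agent.Helper94.Pu.P_PP

set_option autoImplicit false
set_option linter.unusedSectionVars false
set_option linter.unusedVariables false

/-!
# (SINGLE) one block `(n, m)`, `n * m = d ≥ 3`: `eN q n / (q + 1) * p ^ clog p m ≤ Mx p f q (n * m)`

(You may use the statements of P_E1 / P_MONO / P_PP.)  `x := eN q n / (q + 1)`, `P := p ^ clog p m`.
* `m = 1`: `P = 1`, `n = d ≥ 3`: `x ≤ q ^ (d - 1) - 1 ≤ Mx` (`eN_div_le`, `pow_pred_le_Mx`).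
* `n = 1`: `x = 1` (`eN_one`), `m = d`: `P ≤ p (d - 1) ≤ q (d - 1) ≤ q ^ (d - 1) - 1 ≤ Mx` for `d ≥ 4`, or `d = 3, q ≥ 3`
  (`2 q ≤ q² - 1`); `d = 3, q = 2`: `P = 4 ≤ Mx 2 1 2 3 = 6`.
* `n ≥ 2, m ≥ 2`: `x ≤ q ^ (n - 1) - 1`, `P ≤ q ^ (m - 1)` (`pclog_le_pow`), so
  `x P ≤ q ^ (n + m - 2) - q ^ (m - 1) ≤ q ^ (n m - 1) - 1 ≤ Mx` as `n + m - 2 ≤ n m - 1`.
-/

namespace Cfsg.Agent.Helper94.Pu

theorem single_aux (q : ℕ) (hq : 2 ≤ q) (k : ℕ) (hk : 3 ≤ k) : q * k + 1 ≤ q ^ k := by
  induction k, hk using Nat.le_induction with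
  | base =>
    have h1 : q ^ 3 = q * (q * q) := by ring
    have h2 : 4 ≤ q * q := by nlinarith
    have h3 : q * 4 ≤ q * (q * q) := Nat.mul_le_mul_left _ h2
    rw [h1]
    omega
  | succ k hk ih =>
    have h1 : q ^ (k + 1) = q * q ^ k := by ring
    have h2 : q * (q * k + 1) ≤ q * q ^ k := Nat.mul_le_mul_left _ ih
    have h3 : 2 * (q * k) ≤ q * (q * k) := Nat.mul_le_mul_right _ hq
    have h4 : 1 ≤ q * k := by
      have : 1 ≤ k := by omega
      nlinarith
    rw [h1]
    have h5 : q * (q * k + 1) = q * (q * k) + q := by ring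
    have h6 : q * (k + 1) = q * k + q := by ring
    omega

theorem single_bound {p f q : ℕ} (hp : p.Prime) (hf : 1 ≤ f) (hq : q = p ^ f) {n m : ℕ} (hn : 1 ≤ n)
    (hm : 1 ≤ m) (hd : 3 ≤ n * m) :
    eN q n / (q + 1) * p ^ Nat.clog p m ≤ Mx p f q (n * m) := by
  have hpq : p ≤ q := by
    rw [hq]
    calc p = p ^ 1 := (pow_one p).symm
      _ ≤ p ^ f := Nat.pow_le_pow_right hp.pos hf
  have hq2 : 2 ≤ q := le_trans hp.two_le hpq
  rcases Nat.eq_or_lt_of_le hm with hm1 | hm2
  · -- m = 1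
    subst hm1
    rw [pclog_one, mul_one, mul_one]
    have hn3 : 3 ≤ n := by omega
    exact le_trans (eN_div_le q n hq2 (by omega)) (pow_pred_le_Mx hp hf hq hn3)
  · rcases Nat.eq_or_lt_of_le hn with hn1 | hn2
    · -- n = 1
      subst hn1
      have hm3 : 3 ≤ m := by omega
      rw [eN_one, Nat.div_self (by omega), one_mul, one_mul]
      have hP : p ^ Nat.clog p m ≤ p * (m - 1) := pclog_le_mul hp (by omega)
      have hP2 : p * (m - 1) ≤ q * (m - 1) := Nat.mul_le_mul_right _ hpq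
      have hMx := pow_pred_le_Mx hp hf hq hm3
      by_cases hm4 : 4 ≤ m
      · have key := single_aux q hq2 (m - 1) (by omega)
        omega
      · have hm3' : m = 3 := by omega
        subst hm3'
        by_cases hq3 : 3 ≤ q
        · have h1 : q * 2 + 1 ≤ q ^ 2 := by nlinarith
          have e : (3 : ℕ) - 1 = 2 := rfl
          rw [e] at hP hP2 hMx
          omega
        · have hq2' : q = 2 := by omega
          have hp2 : p = 2 := by
            have := hp.two_le
            omega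
          subst hp2
          have hf1 : f = 1 := by
            by_contra hne
            have hf2 : 2 ≤ f := by omega
            have : 2 ^ 2 ≤ 2 ^ f := Nat.pow_le_pow_right (by norm_num) hf2
            omega
          subst hf1
          rw [hq2']
          rw [pclog_three hp, if_pos rfl]
          decide
    · -- n, m ≥ 2
      have hx : eN q n / (q + 1) ≤ q ^ (n - 1) - 1 := eN_div_le q n hq2 hn2
      have hP : p ^ Nat.clog p m ≤ q ^ (m - 1) := pclog_le_pow hp hf hq hm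
      have h1 : eN q n / (q + 1) * p ^ Nat.clog p m ≤ (q ^ (n - 1) - 1) * q ^ (m - 1) :=
        Nat.mul_le_mul hx hP
      have h2 : (q ^ (n - 1) - 1) * q ^ (m - 1) ≤ q ^ (n * m - 1) - 1 := by
        obtain ⟨a, rfl⟩ : ∃ a, n = a + 2 := ⟨n - 2, by omega⟩
        obtain ⟨b, rfl⟩ : ∃ b, m = b + 2 := ⟨m - 2, by omega⟩
        have e1 : a + 2 - 1 = a + 1 := by omega
        have e2 : b + 2 - 1 = b + 1 := by omega
        rw [e1, e2, Nat.sub_mul, one_mul, ← pow_add]
        have hexp : a + 1 + (b + 1) ≤ (a + 2) * (b + 2) - 1 := by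
          have : (a + 2) * (b + 2) = a * b + 2 * a + 2 * b + 4 := by ring
          omega
        have h3 : q ^ (a + 1 + (b + 1)) ≤ q ^ ((a + 2) * (b + 2) - 1) :=
          Nat.pow_le_pow_right (by omega) hexp
        have h4 : 1 ≤ q ^ (b + 1) := Nat.one_le_pow _ _ (by omega)
        omega
      exact le_trans h1 (le_trans h2 (pow_pred_le_Mx hp hf hq hd))

end Cfsg.Agent.Helper94.Pu
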