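import Mathlib
import Cfsg.Prelude.Def_LieClassical
import Cfsg.Agent.Helper94.Pu.Defs
import Cfsg.Agent.Helper94.Pu.Alg
import Cfsg.Agent.Helper94.Pu.P_AM
import Cfsg.Agent.Helper94.Pu.P_SINGLE
import Cfsg.Agent.Helper94.Pu.P_GR1
import Cfsg.Agent.Helper94.Pu.P_GR2

set_option autoImplicit false
set_option linter.unusedSectionVars false
set_option linter.unusedVariables false

/-!
# S2263: the upper bound `orderOf x ≤ Mx p f q d` for all `x ∈ PGU_d(q)`
-/

namespace Cfsg.Agent.Helper94.Pu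

open Polynomial Matrix Cfsg.Agent.Helper43.GUPrime

variable {K : Type*} [Field K] [Fintype K]

theorem two_le_q {p f q : ℕ} (hp : p.Prime) (hf : 1 ≤ f) (hq : q = p ^ f) : 2 ≤ q := by
  rw [hq]
  calc 2 ≤ p := hp.two_le
    _ = p ^ 1 := (pow_one p).symm
    _ ≤ p ^ f := Nat.pow_le_pow_right hp.pos hf

theorem upper (p f d q : ℕ) (hp : p.Prime) (hf : 1 ≤ f) (hq : q = p ^ f)
    (hK : Fintype.card K = q ^ 2) (hd : 3 ≤ d)
    (x : ↥(Cfsg.GU d K q) ⧸ Subgroup.center ↥(Cfsg.GU d K q)) : orderOf x ≤ Mx p f q d := by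
  obtain ⟨g, rfl⟩ := QuotientGroup.mk_surjective x
  obtain ⟨bar, hbar⟩ := Cfsg.Agent.Helper45.GU.exists_bar hK
  have hq2 : 2 ≤ q := two_le_q hp hf hq
  have : CharP K p := charP_of_card hp hf hq hK
  obtain ⟨hmon, hdeg, hc0, hu⟩ := charpoly_props hK bar hbar d g
  obtain ⟨ℓ, hg, hdim, hdvd, hsingle⟩ :=
    exists_blocks (p := p) hp hq2 hK bar hbar d _ hdeg hmon hc0 hu
  rcases ℓ with _ | ⟨b, ℓ'⟩
  · exfalso
    rw [dimB_nil] at hdim
    omega
  · rcases ℓ' with _ | ⟨b', ℓ''⟩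
    · obtain ⟨n, m⟩ := b
      obtain ⟨μ, hμ, hdvd'⟩ := hsingle n m rfl
      have hnm := hg (n, m) (by simp)
      have hdim' : n * m = d := by
        rw [dimB_cons, dimB_nil, add_zero] at hdim
        exact hdim
      have hN : 0 < eN q n / (q + 1) * p ^ Nat.clog p m :=
        Nat.mul_pos (eN_div_pos q n hq2 hnm.1) (pow_pos hp.pos _)
      refine (order_le_of_dvd g hN hdvd').trans ?_
      have := single_bound hp hf hq hnm.1 hnm.2 (by rw [hdim']; exact hd)
      rwa [hdim'] at this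
    · have hlen : 2 ≤ (b :: b' :: ℓ'').length := by simp
      have hN : 0 < lcmB q (b :: b' :: ℓ'') * ppow p (b :: b' :: ℓ'') :=
        Nat.mul_pos (lcmB_pos q hq2 _ hg) (ppow_pos p hp.pos _)
      have hdvd' : ((g : GL (Fin d) K) : Matrix (Fin d) (Fin d) K).charpoly ∣
          X ^ (lcmB q (b :: b' :: ℓ'') * ppow p (b :: b' :: ℓ'')) - C (1 : K) := by
        rw [C_1]; exact hdvd
      refine (order_le_of_dvd g hN hdvd').trans ?_
      exact arith_multi hp hf hq hd _ hg hdim hlen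

end Cfsg.Agent.Helper94.Pu
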