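import Mathlib
import Cfsg.Agent.Helper94.Pu.ExDefs
import Cfsg.Agent.Helper38.UnitaryTorus

set_option autoImplicit false
set_option linter.unusedSectionVars false
set_option linter.unusedVariables false

/-!
# (EX4) an `SC` matrix of size `2 k` and order `q ^ (2 k) - 1` (the torus `GL_k(q²) ≤ GU_{2k}(q)`)

Everything is in helper38's files on main: `Cfsg.Agent.Helper38.Singer.exists_singer` (`Helper38/Singer.lean`; check its
namespace) with the field `K` (`|K| = q²`) gives `B₀ : Matrix (Fin k) (Fin k) K` with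
`orderOf B₀ = |K| ^ k - 1 = q ^ (2 k) - 1`; `det B₀ ≠ 0` since `B₀` has finite order `> 0`... (`q ^ (2k) - 1 ≥ 1`;
`B₀ ^ N = 1` so `det B₀ ^ N = 1`).  In `Helper38/UnitaryTorus.lean`: `torusMat bar B₀ = fromBlocks B₀ 0 0 (cit bar B₀)`,
`torusMat_pow : torusMat bar B ^ j = fromBlocks (B ^ j) 0 0 (cit bar (B ^ j))`, `cit bar 1 = 1` (unfold `cit`), so
`torusMat ^ j = 1 ↔ B₀ ^ j = 1` and `orderOf (torusMat bar B₀) = orderOf B₀` (`orderOf_eq_orderOf_iff`/`orderOf_dvd_iff_pow_eq_one`);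
`torusMat_det`, `torusMat_isConj : IsConj (torusMat bar B) (fromBlocks (cit bar B) 0 0 B)` and
`torusMat_cit (hB : B.det ≠ 0) : (((torusMat bar B).map bar).transpose)⁻¹ = fromBlocks (cit bar B) 0 0 B` give `SC`
(`(⇑bar : K → K) = fun x => x ^ q` by `funext hbar`).
-/

namespace Cfsg.Agent.Helper94.Pu

open Matrix

variable {K : Type*} [Field K] [Fintype K]

theorem exists_SC_even {q : ℕ} (hq : 2 ≤ q) (hK : Fintype.card K = q ^ 2) (bar : K →+* K)
    (hbar : ∀ x, bar x = x ^ q) (k : ℕ) (hk : 1 ≤ k) :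
    ∃ A : Matrix (Fin k ⊕ Fin k) (Fin k ⊕ Fin k) K, SC q A ∧ orderOf A = q ^ (2 * k) - 1 := by
  classical
  obtain ⟨B₀, hord, -, -⟩ := Cfsg.Agent.Helper38.exists_singer (F := K) k hk
  have hN : Fintype.card K ^ k - 1 = q ^ (2 * k) - 1 := by rw [hK, ← pow_mul]
  have hNpos : 0 < q ^ (2 * k) - 1 := by
    have h1 : q ^ (2 * k) ≥ 2 ^ (2 * k) := Nat.pow_le_pow_left hq _
    have h2 : 2 ^ (2 * k) ≥ 2 ^ 1 := Nat.pow_le_pow_right (by norm_num) (by omega)
    omega
  have hpow : B₀ ^ (q ^ (2 * k) - 1) = 1 := by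
    rw [← hN, ← hord]
    exact pow_orderOf_eq_one B₀
  have hdet : B₀.det ≠ 0 := by
    intro h
    have h' := congrArg Matrix.det hpow
    rw [det_pow, h, zero_pow hNpos.ne', det_one] at h'
    exact zero_ne_one h'
  have hbar2 : ∀ x, bar (bar x) = x := by
    intro x
    rw [hbar, hbar, ← pow_mul, ← sq, ← hK, FiniteField.pow_card]
  have hfun : (fun x : K => x ^ q) = ⇑bar := funext (fun x => (hbar x).symm)
  have hcit1 : Cfsg.Agent.Helper38.cit bar (1 : Matrix (Fin k) (Fin k) K) = 1 := by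
    have := Cfsg.Agent.Helper38.cit_smul_one (m := k) bar (1 : K) one_ne_zero
    rwa [one_smul, map_one, inv_one, one_smul] at this
  refine ⟨Cfsg.Agent.Helper38.torusMat bar B₀, ⟨?_, ?_⟩, ?_⟩
  · rw [Cfsg.Agent.Helper38.torusMat_det]
    exact mul_ne_zero hdet (inv_ne_zero ((map_ne_zero bar).2 hdet))
  · rw [hfun, Cfsg.Agent.Helper38.torusMat_cit bar hbar2 B₀ hdet]
    exact Cfsg.Agent.Helper38.torusMat_isConj bar B₀
  · rw [← hN, ← hord]
    apply orderOf_eq_orderOf_iff.mpr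
    intro j
    rw [Cfsg.Agent.Helper38.torusMat_pow]
    constructor
    · intro h
      rw [← fromBlocks_one] at h
      exact (Matrix.fromBlocks_inj.mp h).1
    · intro h
      rw [h, hcit1, fromBlocks_one]

end Cfsg.Agent.Helper94.Pu
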