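import Mathlib
import Cfsg.Prelude.Def_LieClassical
import Cfsg.Agent.Helper94.Pu.ExDefs
import Cfsg.Agent.Helper38.Singer
import Cfsg.Agent.Helper38.PGUExist
import Cfsg.Agent.Helper43.GUPrimeD

set_option autoImplicit false
set_option linter.unusedSectionVars false
set_option linter.unusedVariables false

/-!
# (EX5) for odd `n`, an `SC` matrix of size `n` and order `q ^ n + 1` (the Singer cycle of `GU_n(q)`)

`p := ringChar K` (`[Fact p.Prime]`, `CharP K p`).  `S :=` the Singer matrix of `Cfsg.Agent.Helper38.Singer.exists_singer`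
(check the namespace in `Helper38/Singer.lean`) over `K`: `orderOf S = |K| ^ n - 1 = q ^ (2 n) - 1 = (q ^ n - 1)(q ^ n + 1)`.
`A₀ := S ^ (q ^ n - 1)`, `orderOf A₀ = q ^ n + 1 =: r` (`orderOf_pow'`, `Nat.gcd`).
`Cfsg.Agent.Helper43.GUPrime.utilde_charpoly_eq p hK bar hbar (hr : 0 < r) (hre : r ∣ q ^ (2 e + 1) + 1) A (hAr : A ^ r = 1) :
utilde bar A.charpoly = A.charpoly` (`Helper43/GUPrimeD.lean`) with `n = 2 e + 1`.
`Cfsg.Agent.Helper38.PGU.exists_GU_charpoly p hK bar hbar n f hfm hfd hf0 hfu` (`Helper38/PGUExist.lean`) with `f := A₀.charpoly`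
gives `B : GU n K q` with `charpoly B = charpoly A₀` and `B ^ k = 1`, `k` prime to `p`.
`A₀` and `B` are both of order prime to `p` with the same characteristic polynomial, hence conjugate in `GL_n(K)`:
`isConj_GL_of_charpoly_eq` (helper43, `Helper43/GLConj.lean`; it is used exactly like this inside `exists_GU_charpoly`);
so `orderOf (B : Matrix) = orderOf A₀ = q ^ n + 1`.  Take `A := (B : Matrix)`: `det ≠ 0`, and `B ∈ GU` means
`(B.map (·^q))ᵀ * B = 1`-ish (`Cfsg.Agent.Helper45.GU.mem_GU_iff`, `unitary_of_herm` in `Helper45/GUBasic.lean`: `gᵀ * g.map bar = 1`),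
i.e. `((B.map (·^q))ᵀ)⁻¹ = B`, so `IsConj B (..)⁻¹` by `IsConj.refl`.
(Alternatively prove `SC A₀` directly and skip `B`.)
-/

namespace Cfsg.Agent.Helper94.Pu

open Matrix

variable {K : Type*} [Field K] [Fintype K]

theorem exists_SC_odd {q : ℕ} (hq : 2 ≤ q) (hK : Fintype.card K = q ^ 2) (n : ℕ) (hn : Odd n) :
    ∃ A : Matrix (Fin n) (Fin n) K, SC q A ∧ orderOf A = q ^ n + 1 := by
  classical
  obtain ⟨e, rfl⟩ := hn
  set n := 2 * e + 1 with hn
  have hnpos : 0 < n := by omega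
  let p := ringChar K
  have : CharP K p := ringChar.charP K
  have : Fact p.Prime := ⟨CharP.char_is_prime K p⟩
  have hp : p.Prime := Fact.out
  obtain ⟨bar, hbar⟩ := Cfsg.Agent.Helper45.GU.exists_bar hK
  have hfun : (fun x : K => x ^ q) = ⇑bar := funext (fun x => (hbar x).symm)
  -- the Singer matrix
  obtain ⟨S, hS, -, -⟩ := Cfsg.Agent.Helper38.exists_singer (F := K) n hnpos
  have hqn : 1 ≤ q ^ n - 1 := by
    have h1 : q ^ n ≥ 2 ^ n := Nat.pow_le_pow_left hq _
    have h2 : 2 ^ n ≥ 2 ^ 1 := Nat.pow_le_pow_right (by norm_num) hnpos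
    omega
  have hfac : Fintype.card K ^ n - 1 = (q ^ n - 1) * (q ^ n + 1) := by
    rw [hK, ← pow_mul, mul_comm 2 n, pow_mul]
    have h1 : 1 ≤ q ^ n := by omega
    obtain ⟨t, ht⟩ : ∃ t, q ^ n = t + 1 := ⟨q ^ n - 1, by omega⟩
    rw [ht]
    have : (t + 1) ^ 2 - 1 = (t + 1 - 1) * (t + 1 + 1) := by
      rw [Nat.add_sub_cancel]
      have : (t + 1) ^ 2 = t * (t + 1 + 1) + 1 := by ring
      rw [this, Nat.add_sub_cancel]
    exact this
  set r := q ^ n + 1 with hr
  have hrpos : 0 < r := by omega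
  set A₀ : Matrix (Fin n) (Fin n) K := S ^ (q ^ n - 1) with hA₀
  have hA₀ord : orderOf A₀ = r := by
    rw [hA₀, orderOf_pow' S (by omega : q ^ n - 1 ≠ 0), hS, hfac,
      Nat.gcd_eq_right (Dvd.intro _ rfl), Nat.mul_div_cancel_left _ (by omega : 0 < q ^ n - 1)]
  have hA₀r : A₀ ^ r = 1 := by rw [← hA₀ord]; exact pow_orderOf_eq_one A₀
  have hdetA₀ : A₀.det ≠ 0 := by
    intro h
    have h' := congrArg Matrix.det hA₀r
    rw [det_pow, h, zero_pow hrpos.ne', det_one] at h'
    exact zero_ne_one h'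
  -- the characteristic polynomial is fixed by the twisted reciprocal
  have hut : Cfsg.Agent.Helper43.GUPrime.utilde bar A₀.charpoly = A₀.charpoly :=
    Cfsg.Agent.Helper43.GUPrime.utilde_charpoly_eq p hK bar hbar (e := e) hrpos (dvd_refl _) A₀ hA₀r
  have hf0 : A₀.charpoly.coeff 0 ≠ 0 := by
    intro h
    apply hdetA₀
    rw [Matrix.det_eq_sign_charpoly_coeff, h, mul_zero]
  obtain ⟨B, hBcp, k, hk0, hkp, hBk⟩ := Cfsg.Agent.Helper38.PGU.exists_GU_charpoly p hK bar hbar n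
    A₀.charpoly (Matrix.charpoly_monic A₀)
    (by rw [Matrix.charpoly_natDegree_eq_dim, Fintype.card_fin]) hf0 hut
  -- conjugacy in `GL`
  have hkK : (k : K) ≠ 0 := by
    intro h0
    rw [CharP.cast_eq_zero_iff K p k] at h0
    have : p ∣ Nat.gcd k p := Nat.dvd_gcd h0 dvd_rfl
    rw [hkp] at this
    exact hp.one_lt.ne' (Nat.dvd_one.mp this)
  have hqK : (q : K) = 0 := by
    have h := FiniteField.cast_card_eq_zero K
    rw [hK] at h
    push_cast at h
    exact pow_eq_zero_iff (by norm_num) |>.1 h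
  have hrK : (r : K) ≠ 0 := by
    rw [hr]
    push_cast
    rw [hqK, zero_pow hnpos.ne', zero_add]
    exact one_ne_zero
  let g₀ : GL (Fin n) K := Matrix.GeneralLinearGroup.mkOfDetNeZero A₀ hdetA₀
  have hg₀ : (g₀ : Matrix (Fin n) (Fin n) K) = A₀ := rfl
  have hg₀r : g₀ ^ r = 1 := by
    apply Units.ext
    rw [Units.val_pow_eq_pow_val, hg₀, hA₀r]
    rfl
  have hBk' : (B : GL (Fin n) K) ^ k = 1 := by
    have := congrArg (fun x : ↥(Cfsg.GU n K q) => (x : GL (Fin n) K)) hBk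
    simpa using this
  have hconj : IsConj g₀ (B : GL (Fin n) K) :=
    Cfsg.Agent.Helper43.SS.isConj_GL_of_charpoly_eq g₀ (B : GL (Fin n) K) r k hrK hkK hg₀r hBk'
      (by rw [hg₀, hBcp])
  obtain ⟨c, hc⟩ := isConj_iff.1 hconj
  have hordB : orderOf (((B : GL (Fin n) K)) : Matrix (Fin n) (Fin n) K) = r := by
    have h1 : orderOf ((B : GL (Fin n) K)) = orderOf g₀ := by
      rw [← hc]
      exact (MulAut.conj c).orderOf_eq g₀
    have h2 : orderOf (((B : GL (Fin n) K)) : Matrix (Fin n) (Fin n) K) =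
        orderOf (B : GL (Fin n) K) := orderOf_units
    have h3 : orderOf (g₀ : Matrix (Fin n) (Fin n) K) = orderOf g₀ := orderOf_units
    rw [h2, h1, ← h3, hg₀, hA₀ord]
  -- `B` is unitary
  have hBU := (Cfsg.Agent.Helper45.GU.mem_GU_iff n bar hbar (B : GL (Fin n) K)).1 B.2
  have hunit := Cfsg.Agent.Helper45.GU.unitary_of_herm bar _ hBU
  refine ⟨((B : GL (Fin n) K) : Matrix (Fin n) (Fin n) K), ⟨?_, ?_⟩, hordB⟩
  · exact ((Matrix.isUnit_iff_isUnit_det _).1 (B : GL (Fin n) K).isUnit).ne_zero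
  · rw [hfun]
    have h4 : ((((B : GL (Fin n) K) : Matrix (Fin n) (Fin n) K).map bar).transpose) *
        ((B : GL (Fin n) K) : Matrix (Fin n) (Fin n) K) = 1 := by
      have := congrArg Matrix.transpose hunit
      rwa [transpose_mul, transpose_transpose, transpose_one] at this
    rw [Matrix.inv_eq_right_inv h4]

end Cfsg.Agent.Helper94.Pu
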