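import Mathlib
import Cfsg.Agent.Helper94.Pu.ExDefs

set_option autoImplicit false
set_option linter.unusedSectionVars false
set_option linter.unusedVariables false

/-!
# (EX6) the unipotent `2 × 2` block, and the trivial `1 × 1` block

`J := !![1, 1; 0, 1]` over a field `K` of characteristic `p`, `q > 0`.  `J.map (· ^ q) = J` (`1 ^ q = 1`, `0 ^ q = 0`),
`(Jᵀ)⁻¹ = !![1, 0; -1, 1] =: J'` (`Matrix.inv_eq_right_inv`), and `c := !![0, 1; -1, 0]` (a unit, `det c = 1`) satisfies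
`c * J = J' * c` (both are `!![0, 1; -1, -1]`).  `J ^ j = !![1, j; 0, 1]` (induction), so `J ^ j = μ • 1 → μ = 1`
(entry `0 0`) and `J ^ j = 1 ↔ (j : K) = 0 ↔ p ∣ j` (`CharP.cast_eq_zero_iff`), i.e. `orderOf J = p`
(`orderOf_eq_iff`/`Nat.dvd_antisymm` with `orderOf_dvd_iff_pow_eq_one`).
`1 : Matrix (Fin 1) (Fin 1) K`: `SC` by `IsConj.refl` after `simp`, `orderOf 1 = 1`, `1 ^ j = μ • 1 → μ = 1` (entry `0 0`).
-/

namespace Cfsg.Agent.Helper94.Pu

open Matrix

variable {K : Type*} [Field K]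

/-- a matrix fixing a nonzero vector has property `SP` (helper81) -/
theorem EX6_SP_of_mulVec_fixed {ι : Type*} [Fintype ι] [DecidableEq ι] (B : Matrix ι ι K)
    (v : ι → K) (i : ι) (hv : v i ≠ 0) (hB : B *ᵥ v = v) : SP B := by
  intro j μ h
  have hj : ∀ n : ℕ, (B ^ n) *ᵥ v = v := by
    intro n
    induction n with
    | zero => simp
    | succ n ih => rw [pow_succ, ← Matrix.mulVec_mulVec, hB, ih]
  have hj := hj j
  rw [h, Matrix.smul_mulVec, Matrix.one_mulVec] at hj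
  have h1 := congrFun hj i
  rw [Pi.smul_apply, smul_eq_mul] at h1
  have h2 : (μ - 1) * v i = 0 := by rw [sub_mul, h1, one_mul, sub_self]
  rcases mul_eq_zero.1 h2 with h3 | h3
  · exact sub_eq_zero.1 h3
  · exact absurd h3 hv

/-- powers of the `2 × 2` Jordan block (helper81) -/
theorem EX6_J2_pow (j : ℕ) : (!![1, 1; 0, 1] : Matrix (Fin 2) (Fin 2) K) ^ j = !![1, (j : K); 0, 1] := by
  induction j with
  | zero =>
    rw [pow_zero, Nat.cast_zero]
    ext a b
    fin_cases a <;> fin_cases b <;> simp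
  | succ n ih =>
    rw [pow_succ, ih, Matrix.mul_fin_two]
    ext a b
    fin_cases a <;> fin_cases b <;> simp [add_comm]

theorem exists_SC_J2 {p q : ℕ} [CharP K p] (hp : p.Prime) (hq : 0 < q) :
    ∃ J : Matrix (Fin 2) (Fin 2) K, SC q J ∧ SP J ∧ orderOf J = p := by
  have hfact : Fact p.Prime := ⟨hp⟩
  refine ⟨!![1, 1; 0, 1], ⟨?_, ?_⟩, ?_, ?_⟩
  · rw [Matrix.det_fin_two_of]
    simp
  · have hmap : (!![1, 1; 0, 1] : Matrix (Fin 2) (Fin 2) K).map (fun x : K => x ^ q)
        = !![1, 1; 0, 1] := by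
      ext a b
      fin_cases a <;> fin_cases b <;> simp [hq.ne']
    have hinv : ((!![1, 1; 0, 1] : Matrix (Fin 2) (Fin 2) K).transpose)⁻¹ = !![1, 0; -1, 1] := by
      apply Matrix.inv_eq_right_inv
      ext a b
      fin_cases a <;> fin_cases b <;> simp [Matrix.mul_apply, Fin.sum_univ_two]
    rw [hmap, hinv]
    have hc1 : (!![0, 1; -1, 0] : Matrix (Fin 2) (Fin 2) K) * !![0, -1; 1, 0] = 1 := by
      ext a b
      fin_cases a <;> fin_cases b <;> simp [Matrix.mul_apply, Fin.sum_univ_two]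
    have hc2 : (!![0, -1; 1, 0] : Matrix (Fin 2) (Fin 2) K) * !![0, 1; -1, 0] = 1 := by
      ext a b
      fin_cases a <;> fin_cases b <;> simp [Matrix.mul_apply, Fin.sum_univ_two]
    refine ⟨⟨!![0, 1; -1, 0], !![0, -1; 1, 0], hc1, hc2⟩, ?_⟩
    show (!![0, 1; -1, 0] : Matrix (Fin 2) (Fin 2) K) * !![1, 1; 0, 1] = !![1, 0; -1, 1] * !![0, 1; -1, 0]
    ext a b
    fin_cases a <;> fin_cases b <;> simp [Matrix.mul_apply, Fin.sum_univ_two]
  · apply EX6_SP_of_mulVec_fixed _ ![1, 0] 0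
    · simp
    · ext a
      fin_cases a <;> simp [Matrix.mulVec, dotProduct, Fin.sum_univ_two]
  · apply orderOf_eq_prime
    · rw [EX6_J2_pow, CharP.cast_eq_zero K p]
      ext a b
      fin_cases a <;> fin_cases b <;> simp
    · intro h
      have h01 := congrFun (congrFun h 0) 1
      simp at h01

theorem SC_one_one {q : ℕ} (hq : 0 < q) :
    SC q (1 : Matrix (Fin 1) (Fin 1) K) ∧ SP (1 : Matrix (Fin 1) (Fin 1) K) ∧
      orderOf (1 : Matrix (Fin 1) (Fin 1) K) = 1 := by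
  refine ⟨⟨?_, ?_⟩, ?_, orderOf_one⟩
  · rw [Matrix.det_one]
    exact one_ne_zero
  · have hmap : (1 : Matrix (Fin 1) (Fin 1) K).map (fun x : K => x ^ q) = 1 := by
      ext a b
      fin_cases a; fin_cases b
      simp
    rw [hmap, Matrix.transpose_one, inv_one]
  · intro j μ h
    rw [one_pow] at h
    have h00 := congrFun (congrFun h 0) 0
    simp at h00
    exact h00.symm

end Cfsg.Agent.Helper94.Pu
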