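import Mathlib
import Cfsg.Agent.Helper94.Pu.ExDefs

set_option autoImplicit false
set_option linter.unusedSectionVars false
set_option linter.unusedVariables false

/-!
# (EX7) the regular unipotent `3 × 3` block in characteristic `2`: order `4`

`J := !![1, 1, 0; 0, 1, 1; 0, 0, 1]` over a field `K` of characteristic `2`, `q > 0`.  `J.map (· ^ q) = J`.
`(Jᵀ)⁻¹ = !![1, 0, 0; 1, 1, 0; 1, 1, 1] =: J'` (check `Jᵀ * J' = 1` using `1 + 1 = 0`; `Matrix.inv_eq_right_inv`), and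
`c := !![0, 0, 1; 0, 1, 0; 1, 1, 0]` (`det c = -1 = 1 ≠ 0`, a unit) satisfies `c * J = J' * c` (machine-checked over `F_2`).
`J ^ 2 = !![1, 0, 1; 0, 1, 0; 0, 0, 1] ≠ 1`, `J ^ 4 = 1`, so `orderOf J = 4` (`orderOf_eq_prime_pow`: `¬ J ^ 2 ^ 1 = 1`,
`J ^ 2 ^ 2 = 1`).  `SP J`: `J ^ j` is upper unitriangular, entry `0 0` is `1` (e.g. `J ^ j` only depends on `j % 4`:
`j = 4 a + b`, `J ^ j = J ^ b`, four explicit matrices), so `J ^ j = μ • 1 → μ = 1`.
-/

namespace Cfsg.Agent.Helper94.Pu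

open Matrix

variable {K : Type*} [Field K]

/-- a matrix fixing a nonzero vector has property `SP` (helper81; copy of the lemma of P_EX6) -/
theorem EX7_SP_of_mulVec_fixed {ι : Type*} [Fintype ι] [DecidableEq ι] (B : Matrix ι ι K)
    (v : ι → K) (i : ι) (hv : v i ≠ 0) (hB : B *ᵥ v = v) : SP B := by
  intro j μ h
  have hj : ∀ n : ℕ, (B ^ n) *ᵥ v = v := by
    intro n
    induction n with
    | zero => simp
    | succ n ih => rw [pow_succ, ← Matrix.mulVec_mulVec, hB, ih]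
  have hj := hj j
  rw [h, Matrix.smul_mulVec, Matrix.one_mulVec] at hj
  have h1 := congrFun hj i
  rw [Pi.smul_apply, smul_eq_mul] at h1
  have h2 : (μ - 1) * v i = 0 := by rw [sub_mul, h1, one_mul, sub_self]
  rcases mul_eq_zero.1 h2 with h3 | h3
  · exact sub_eq_zero.1 h3
  · exact absurd h3 hv

theorem exists_SC_J3 [CharP K 2] {q : ℕ} (hq : 0 < q) :
    ∃ J : Matrix (Fin 3) (Fin 3) K, SC q J ∧ SP J ∧ orderOf J = 4 := by
  have hfact : Fact (Nat.Prime 2) := ⟨Nat.prime_two⟩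
  have h2 : (2 : K) = 0 := CharTwo.two_eq_zero
  have h11 : (1 : K) + 1 = 0 := CharTwo.add_self_eq_zero 1
  have hneg : (-1 : K) = 1 := CharTwo.neg_eq 1
  refine ⟨!![1, 1, 0; 0, 1, 1; 0, 0, 1], ⟨?_, ?_⟩, ?_, ?_⟩
  · rw [Matrix.det_fin_three]
    simp
  · have hmap : (!![1, 1, 0; 0, 1, 1; 0, 0, 1] : Matrix (Fin 3) (Fin 3) K).map (fun x : K => x ^ q)
        = !![1, 1, 0; 0, 1, 1; 0, 0, 1] := by
      ext a b
      fin_cases a <;> fin_cases b <;> simp [hq.ne']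
    have hinv : ((!![1, 1, 0; 0, 1, 1; 0, 0, 1] : Matrix (Fin 3) (Fin 3) K).transpose)⁻¹
        = !![1, 0, 0; 1, 1, 0; 1, 1, 1] := by
      apply Matrix.inv_eq_right_inv
      ext a b
      fin_cases a <;> fin_cases b <;> simp [Matrix.mul_apply, Fin.sum_univ_three, h11]
    rw [hmap, hinv]
    have hc1 : (!![0, 0, 1; 0, 1, 0; 1, 1, 0] : Matrix (Fin 3) (Fin 3) K) *
        !![0, -1, 1; 0, 1, 0; 1, 0, 0] = 1 := by
      ext a b
      fin_cases a <;> fin_cases b <;> simp [Matrix.mul_apply, Fin.sum_univ_three]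
    have hc2 : (!![0, -1, 1; 0, 1, 0; 1, 0, 0] : Matrix (Fin 3) (Fin 3) K) *
        !![0, 0, 1; 0, 1, 0; 1, 1, 0] = 1 := by
      ext a b
      fin_cases a <;> fin_cases b <;> simp [Matrix.mul_apply, Fin.sum_univ_three]
    refine ⟨⟨!![0, 0, 1; 0, 1, 0; 1, 1, 0], !![0, -1, 1; 0, 1, 0; 1, 0, 0], hc1, hc2⟩, ?_⟩
    show (!![0, 0, 1; 0, 1, 0; 1, 1, 0] : Matrix (Fin 3) (Fin 3) K) * !![1, 1, 0; 0, 1, 1; 0, 0, 1]
      = !![1, 0, 0; 1, 1, 0; 1, 1, 1] * !![0, 0, 1; 0, 1, 0; 1, 1, 0]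
    ext a b
    fin_cases a <;> fin_cases b <;> simp [Matrix.mul_apply, Fin.sum_univ_three, h11]
  · apply EX7_SP_of_mulVec_fixed _ ![1, 0, 0] 0
    · simp
    · ext a
      fin_cases a <;> simp [Matrix.mulVec, dotProduct, Fin.sum_univ_three]
  · have hsq : (!![1, 1, 0; 0, 1, 1; 0, 0, 1] : Matrix (Fin 3) (Fin 3) K) ^ 2
        = !![1, 0, 1; 0, 1, 0; 0, 0, 1] := by
      rw [pow_two]
      ext a b
      fin_cases a <;> fin_cases b <;> simp [Matrix.mul_apply, Fin.sum_univ_three, h11]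
    have h4 : orderOf (!![1, 1, 0; 0, 1, 1; 0, 0, 1] : Matrix (Fin 3) (Fin 3) K) = 2 ^ (1 + 1) := by
      apply orderOf_eq_prime_pow
      · rw [pow_one, hsq]
        intro h
        have h02 := congrFun (congrFun h 0) 2
        simp at h02
      · show _ ^ (2 ^ 2) = 1
        have e : (2 : ℕ) ^ 2 = 2 * 2 := by norm_num
        rw [e, pow_mul, hsq, pow_two]
        ext a b
        fin_cases a <;> fin_cases b <;> simp [Matrix.mul_apply, Fin.sum_univ_three, h11]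
    rw [h4]
    norm_num

end Cfsg.Agent.Helper94.Pu
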