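import Mathlib
import Cfsg.Agent.Helper94.Pu.ExDefs

set_option autoImplicit false
set_option linter.unusedSectionVars false
set_option linter.unusedVariables false

/-!
# (EX2) block diagonal sums of `SC` matrices

`M := fromBlocks A 0 0 B`.  `det M = det A * det B` (`Matrix.det_fromBlocks_zero₁₂`/`det_fromBlocks_zero₂₁`).
`(M.map φ)ᵀ = fromBlocks (A.map φ)ᵀ 0 0 (B.map φ)ᵀ` (`fromBlocks_map`, `fromBlocks_transpose`; `0 ^ q = 0` needs `q ≠ 0`, so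
treat `q = 0` separately or note `(0 : Matrix).map f` entries `f 0`: use the hypothesis `hq : 0 < q`), and the inverse
of an invertible block diagonal matrix is block diagonal (`Matrix.inv_eq_right_inv`, `fromBlocks_multiply`).
If `cA * A = A' * cA`, `cB * B = B' * cB` with units `cA`, `cB`, then `fromBlocks cA 0 0 cB` is a unit (inverse
`fromBlocks cA⁻¹ 0 0 cB⁻¹`) conjugating `M` to `fromBlocks A' 0 0 B'`.
Powers: `M ^ j = fromBlocks (A ^ j) 0 0 (B ^ j)` (induction, `fromBlocks_multiply`), and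
`μ • 1 = fromBlocks (μ • 1) 0 0 (μ • 1)` (`fromBlocks_smul`, `fromBlocks_one`), `fromBlocks_inj`.
-/

namespace Cfsg.Agent.Helper94.Pu

open Matrix

variable {K : Type*} [Field K]

theorem fromBlocks_diag_pow {ι₁ ι₂ : Type*} [Fintype ι₁] [DecidableEq ι₁] [Fintype ι₂]
    [DecidableEq ι₂] (A : Matrix ι₁ ι₁ K) (B : Matrix ι₂ ι₂ K) (j : ℕ) :
    (fromBlocks A 0 0 B) ^ j = fromBlocks (A ^ j) 0 0 (B ^ j) := by
  induction j with
  | zero => simp [fromBlocks_one]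
  | succ j ih =>
    rw [pow_succ, ih, fromBlocks_multiply, pow_succ, pow_succ]
    simp

theorem fromBlocks_diag_pow_eq_smul {ι₁ ι₂ : Type*} [Fintype ι₁] [DecidableEq ι₁] [Fintype ι₂]
    [DecidableEq ι₂] (A : Matrix ι₁ ι₁ K) (B : Matrix ι₂ ι₂ K) (j : ℕ) (μ : K) :
    (fromBlocks A 0 0 B) ^ j = μ • (1 : Matrix (ι₁ ⊕ ι₂) (ι₁ ⊕ ι₂) K) ↔
      A ^ j = μ • (1 : Matrix ι₁ ι₁ K) ∧ B ^ j = μ • (1 : Matrix ι₂ ι₂ K) := by
  rw [fromBlocks_diag_pow]
  have h1 : μ • (1 : Matrix (ι₁ ⊕ ι₂) (ι₁ ⊕ ι₂) K) =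
      fromBlocks (μ • (1 : Matrix ι₁ ι₁ K)) 0 0 (μ • (1 : Matrix ι₂ ι₂ K)) := by
    rw [← fromBlocks_one, fromBlocks_smul, smul_zero, smul_zero]
  rw [h1, fromBlocks_inj]
  tauto

/-- the entrywise `q`-th power of a zero matrix is zero (`q > 0`) -/
theorem map_zero_pow_h75 {q : ℕ} (hq : 0 < q) {m n : Type*} :
    ((0 : Matrix m n K).map (fun x : K => x ^ q)) = 0 := by
  ext i j
  simp [hq.ne']

/-- the inverse of a block diagonal matrix with invertible blocks -/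
theorem inv_fromBlocks_diag_h75 {ι₁ ι₂ : Type*} [Fintype ι₁] [DecidableEq ι₁] [Fintype ι₂]
    [DecidableEq ι₂] (X : Matrix ι₁ ι₁ K) (Y : Matrix ι₂ ι₂ K) (hX : IsUnit X.det)
    (hY : IsUnit Y.det) :
    (fromBlocks X 0 0 Y)⁻¹ = fromBlocks X⁻¹ 0 0 Y⁻¹ := by
  apply Matrix.inv_eq_right_inv
  rw [fromBlocks_multiply, Matrix.mul_nonsing_inv X hX, Matrix.mul_nonsing_inv Y hY]
  simp [fromBlocks_one]

/-- a matrix conjugate (by a unit) from a matrix with nonzero determinant has unit determinant -/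
theorem isUnit_det_of_isConj_inv_h75 {ι : Type*} [Fintype ι] [DecidableEq ι] {A X : Matrix ι ι K}
    (hdet : A.det ≠ 0) (h : IsConj A X⁻¹) : IsUnit X.det := by
  obtain ⟨c, hc⟩ := h
  have hc' : (c : Matrix ι ι K) * A = X⁻¹ * (c : Matrix ι ι K) := hc
  have hd := congrArg Matrix.det hc'
  rw [Matrix.det_mul, Matrix.det_mul] at hd
  have hcdet : (c : Matrix ι ι K).det ≠ 0 := by
    have : IsUnit (c : Matrix ι ι K).det := (Matrix.isUnit_iff_isUnit_det _).1 c.isUnit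
    exact this.ne_zero
  have hne : (X⁻¹).det ≠ 0 := by
    intro h0
    rw [h0, zero_mul] at hd
    exact (mul_ne_zero hcdet hdet) hd
  exact (Matrix.isUnit_nonsing_inv_det_iff).1 (isUnit_iff_ne_zero.2 hne)

theorem SC_fromBlocks {q : ℕ} (hq : 0 < q) {ι₁ ι₂ : Type*} [Fintype ι₁] [DecidableEq ι₁]
    [Fintype ι₂] [DecidableEq ι₂] {A : Matrix ι₁ ι₁ K} {B : Matrix ι₂ ι₂ K} (hA : SC q A)
    (hB : SC q B) : SC q (fromBlocks A 0 0 B) := by
  obtain ⟨hAd, hAc⟩ := hA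
  obtain ⟨hBd, hBc⟩ := hB
  refine ⟨?_, ?_⟩
  · rw [Matrix.det_fromBlocks_zero₁₂]
    exact mul_ne_zero hAd hBd
  · set X : Matrix ι₁ ι₁ K := (A.map (fun x : K => x ^ q)).transpose with hX
    set Y : Matrix ι₂ ι₂ K := (B.map (fun x : K => x ^ q)).transpose with hY
    have hXu : IsUnit X.det := isUnit_det_of_isConj_inv_h75 hAd hAc
    have hYu : IsUnit Y.det := isUnit_det_of_isConj_inv_h75 hBd hBc
    have hmap : ((fromBlocks A 0 0 B).map (fun x : K => x ^ q)).transpose = fromBlocks X 0 0 Y := by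
      rw [fromBlocks_map, fromBlocks_transpose, map_zero_pow_h75 hq, map_zero_pow_h75 hq]
      simp [hX, hY]
    rw [hmap, inv_fromBlocks_diag_h75 X Y hXu hYu]
    obtain ⟨cA, hcA⟩ := hAc
    obtain ⟨cB, hcB⟩ := hBc
    have hcA' : (cA : Matrix ι₁ ι₁ K) * A = X⁻¹ * (cA : Matrix ι₁ ι₁ K) := hcA
    have hcB' : (cB : Matrix ι₂ ι₂ K) * B = Y⁻¹ * (cB : Matrix ι₂ ι₂ K) := hcB
    refine ⟨⟨fromBlocks (cA : Matrix ι₁ ι₁ K) 0 0 (cB : Matrix ι₂ ι₂ K),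
      fromBlocks ((cA⁻¹ : (Matrix ι₁ ι₁ K)ˣ) : Matrix ι₁ ι₁ K) 0 0
        ((cB⁻¹ : (Matrix ι₂ ι₂ K)ˣ) : Matrix ι₂ ι₂ K), ?_, ?_⟩, ?_⟩
    · rw [fromBlocks_multiply]
      simp [fromBlocks_one]
    · rw [fromBlocks_multiply]
      simp [fromBlocks_one]
    · show fromBlocks (cA : Matrix ι₁ ι₁ K) 0 0 (cB : Matrix ι₂ ι₂ K) * fromBlocks A 0 0 B =
        fromBlocks X⁻¹ 0 0 Y⁻¹ * fromBlocks (cA : Matrix ι₁ ι₁ K) 0 0 (cB : Matrix ι₂ ι₂ K)
      rw [fromBlocks_multiply, fromBlocks_multiply]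
      simp [hcA', hcB']

end Cfsg.Agent.Helper94.Pu
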