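import Mathlib
import Cfsg.Prelude.Def_LieClassical
import Cfsg.Agent.Helper94.Pu.ExDefs
import Cfsg.Agent.Helper94.Pu.P_EX1
import Cfsg.Agent.Helper94.Pu.P_EX2
import Cfsg.Agent.Helper94.Pu.P_EX3

set_option autoImplicit false
set_option linter.unusedSectionVars false
set_option linter.unusedVariables false

/-!
# (EX9) glue: an element of `PGU_d(q)` of order `lcm (orderOf A) (orderOf B)` from `SC` blocks `A`, `B` with `SP B`

From the STATEMENTS of (EX1), (EX2), (EX3).  `M := fromBlocks A 0 0 B`, `SC q M` (`SC_fromBlocks`), `X ∈ GU d K q` from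
`exists_gu_of_SC hK e M` with `X ^ j = μ • 1 ↔ M ^ j = μ • 1 ↔ (A ^ j = μ • 1 ∧ B ^ j = μ • 1)` (`fromBlocks_diag_pow_eq_smul`).
`(∃ μ, X ^ j = μ • 1) ↔ (A ^ j = 1 ∧ B ^ j = 1)`: `→` by `SP B` (`μ = 1`, `one_smul`); `←` with `μ = 1`.
`↔ orderOf A ∣ j ∧ orderOf B ∣ j ↔ lcm ∣ j` (`orderOf_dvd_iff_pow_eq_one`, `Nat.lcm_dvd_iff`).  Then `orderOf_mk_eq`.
`1 ≤ d`: `SP B` forces `ι₂` nonempty (over an empty index type all matrices are equal, so `B ^ 0 = 0 • 1` would give `0 = 1`),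
and `e` maps it into `Fin d`.
-/

namespace Cfsg.Agent.Helper94.Pu

open Matrix

variable {K : Type*} [Field K] [Fintype K]

theorem exists_order_lcm {q d : ℕ} (hq : 0 < q) (hK : Fintype.card K = q ^ 2) {ι₁ ι₂ : Type}
    [Fintype ι₁] [DecidableEq ι₁] [Fintype ι₂] [DecidableEq ι₂] (e : ι₁ ⊕ ι₂ ≃ Fin d)
    (A : Matrix ι₁ ι₁ K) (B : Matrix ι₂ ι₂ K) (hA : SC q A) (hB : SC q B) (hSP : SP B) :
    ∃ x : ↥(Cfsg.GU d K q) ⧸ Subgroup.center ↥(Cfsg.GU d K q),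
      orderOf x = Nat.lcm (orderOf A) (orderOf B) := by
  have hM : SC q (fromBlocks A 0 0 B) := SC_fromBlocks hq hA hB
  obtain ⟨X, hX⟩ := exists_gu_of_SC hK e (fromBlocks A 0 0 B) hM
  have hd : 1 ≤ d := by
    have hne : Nonempty ι₂ := by
      by_contra hempty
      rw [not_nonempty_iff] at hempty
      have h01 : (0 : K) = 1 := hSP 0 0 (Subsingleton.elim _ _)
      exact zero_ne_one h01
    obtain ⟨i⟩ := hne
    have hpos := (e (Sum.inr i)).pos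
    omega
  refine ⟨QuotientGroup.mk X, orderOf_mk_eq hK hd X _ ?_⟩
  intro j
  constructor
  · rintro ⟨μ, hμ⟩
    rw [hX, fromBlocks_diag_pow_eq_smul] at hμ
    obtain ⟨h1, h2⟩ := hμ
    have hμ1 : μ = 1 := hSP j μ h2
    subst hμ1
    rw [one_smul] at h1 h2
    exact Nat.lcm_dvd (orderOf_dvd_of_pow_eq_one h1) (orderOf_dvd_of_pow_eq_one h2)
  · intro hdvd
    refine ⟨1, ?_⟩
    rw [hX, fromBlocks_diag_pow_eq_smul, one_smul, one_smul]
    exact ⟨orderOf_dvd_iff_pow_eq_one.1 ((Nat.dvd_lcm_left _ _).trans hdvd),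
      orderOf_dvd_iff_pow_eq_one.1 ((Nat.dvd_lcm_right _ _).trans hdvd)⟩

end Cfsg.Agent.Helper94.Pu
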