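import Mathlib
import Cfsg.Prelude.Def_LieClassical
import Cfsg.Agent.Helper94.Pu.Defs
import Cfsg.Agent.Helper94.Pu.ExDefs
import Cfsg.Agent.Helper94.Pu.P_GR1
import Cfsg.Agent.Helper94.Pu.P_EX4
import Cfsg.Agent.Helper94.Pu.P_EX5
import Cfsg.Agent.Helper94.Pu.P_EX6
import Cfsg.Agent.Helper94.Pu.P_EX7
import Cfsg.Agent.Helper94.Pu.P_EX9

set_option autoImplicit false
set_option linter.unusedSectionVars false
set_option linter.unusedVariables false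

/-!
# S2263: existence of elements of `PGU_d(q)` of the maximal order
-/

namespace Cfsg.Agent.Helper94.Pu

open Matrix

variable {K : Type*} [Field K] [Fintype K]

/-- `Fin a ⊕ Fin b ≃ Fin d` when `a + b = d` -/
def sumFinEquiv {a b d : ℕ} (h : a + b = d) : Fin a ⊕ Fin b ≃ Fin d :=
  finSumFinEquiv.trans (finCongr h)

/-- `(Fin k ⊕ Fin k) ⊕ Fin 1 ≃ Fin d` when `k + k + 1 = d` -/
def sumFinEquiv3 {k d : ℕ} (h : k + k + 1 = d) : (Fin k ⊕ Fin k) ⊕ Fin 1 ≃ Fin d :=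
  (Equiv.sumCongr finSumFinEquiv (Equiv.refl (Fin 1))).trans (sumFinEquiv h)

theorem q_pos' {p f q : ℕ} (hp : p.Prime) (hq : q = p ^ f) : 0 < q := by
  rw [hq]; exact pow_pos hp.pos f

/-- `d` odd: an element of order `q ^ (d - 1) - 1` -/
theorem exists_odd_a {p f q d : ℕ} (hp : p.Prime) (hf : 1 ≤ f) (hq : q = p ^ f)
    (hK : Fintype.card K = q ^ 2) (hd : 3 ≤ d) (hodd : Odd d) :
    ∃ x : ↥(Cfsg.GU d K q) ⧸ Subgroup.center ↥(Cfsg.GU d K q), orderOf x = q ^ (d - 1) - 1 := by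
  obtain ⟨k, hk⟩ := hodd
  have hq0 : 0 < q := q_pos' hp hq
  have hq2 : 2 ≤ q := by
    rw [hq]
    calc 2 ≤ p := hp.two_le
      _ = p ^ 1 := (pow_one p).symm
      _ ≤ p ^ f := Nat.pow_le_pow_right hp.pos hf
  obtain ⟨bar, hbar⟩ := Cfsg.Agent.Helper45.GU.exists_bar hK
  obtain ⟨A, hA, hoA⟩ := exists_SC_even hq2 hK bar hbar k (by omega)
  obtain ⟨hB, hSP, hoB⟩ := SC_one_one (K := K) hq0
  obtain ⟨x, hx⟩ := exists_order_lcm hq0 hK (sumFinEquiv3 (k := k) (d := d) (by omega)) A 1 hA hB hSP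
  refine ⟨x, ?_⟩
  rw [hx, hoA, hoB, Nat.lcm_one_right]
  congr 2
  omega

/-- `d` even: an element of order `q ^ (d - 1) + 1` -/
theorem exists_even_a {p f q d : ℕ} (hp : p.Prime) (hf : 1 ≤ f) (hq : q = p ^ f)
    (hK : Fintype.card K = q ^ 2) (hd : 3 ≤ d) (heven : Even d) :
    ∃ x : ↥(Cfsg.GU d K q) ⧸ Subgroup.center ↥(Cfsg.GU d K q), orderOf x = q ^ (d - 1) + 1 := by
  have hq0 : 0 < q := q_pos' hp hq
  have hq2 : 2 ≤ q := by
    rw [hq]
    calc 2 ≤ p := hp.two_le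
      _ = p ^ 1 := (pow_one p).symm
      _ ≤ p ^ f := Nat.pow_le_pow_right hp.pos hf
  have hn : Odd (d - 1) := by
    obtain ⟨k, hk⟩ := heven
    exact ⟨k - 1, by omega⟩
  obtain ⟨A, hA, hoA⟩ := exists_SC_odd hq2 hK (d - 1) hn
  obtain ⟨hB, hSP, hoB⟩ := SC_one_one (K := K) hq0
  obtain ⟨x, hx⟩ := exists_order_lcm hq0 hK (sumFinEquiv (a := d - 1) (b := 1) (d := d) (by omega))
    A 1 hA hB hSP
  refine ⟨x, ?_⟩
  rw [hx, hoA, hoB, Nat.lcm_one_right]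

/-- `d` odd, `q = p`: an element of order `(p ^ (d - 2) + 1) * p` -/
theorem exists_odd_b {p q d : ℕ} (hp : p.Prime) (hq : q = p) (hK : Fintype.card K = q ^ 2)
    (hd : 3 ≤ d) (hodd : Odd d) :
    ∃ x : ↥(Cfsg.GU d K q) ⧸ Subgroup.center ↥(Cfsg.GU d K q),
      orderOf x = (p ^ (d - 2) + 1) * p := by
  subst hq
  have hq0 : 0 < q := hp.pos
  have hq2 : 2 ≤ q := hp.two_le
  have : CharP K q := charP_of_card (f := 1) hp le_rfl (pow_one q).symm hK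
  have hn : Odd (d - 2) := by
    obtain ⟨k, hk⟩ := hodd
    exact ⟨k - 1, by omega⟩
  obtain ⟨A, hA, hoA⟩ := exists_SC_odd hq2 hK (d - 2) hn
  obtain ⟨J, hB, hSP, hoB⟩ := exists_SC_J2 (K := K) (p := q) (q := q) hp hq0
  obtain ⟨x, hx⟩ := exists_order_lcm hq0 hK (sumFinEquiv (a := d - 2) (b := 2) (d := d) (by omega))
    A J hA hB hSP
  refine ⟨x, ?_⟩
  rw [hx, hoA, hoB]
  have hcop : Nat.Coprime (q ^ (d - 2) + 1) q := by
    have h1 : q ∣ q ^ (d - 2) := dvd_pow_self q (by omega)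
    have h2 : Nat.gcd (q ^ (d - 2) + 1) q ∣ 1 := by
      have ha : Nat.gcd (q ^ (d - 2) + 1) q ∣ q ^ (d - 2) + 1 := Nat.gcd_dvd_left _ _
      have hb : Nat.gcd (q ^ (d - 2) + 1) q ∣ q ^ (d - 2) := (Nat.gcd_dvd_right _ _).trans h1
      exact (Nat.dvd_add_right hb).mp ha
    exact Nat.eq_one_of_dvd_one h2
  exact hcop.lcm_eq_mul

/-- `d` even, `q = 2`: an element of order `4 * (2 ^ (d - 3) + 1)` -/
theorem exists_even_b {d : ℕ} (hK : Fintype.card K = 2 ^ 2) (hd : 3 ≤ d) (heven : Even d) :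
    ∃ x : ↥(Cfsg.GU d K 2) ⧸ Subgroup.center ↥(Cfsg.GU d K 2),
      orderOf x = 4 * (2 ^ (d - 3) + 1) := by
  have : CharP K 2 := charP_of_card (p := 2) (f := 1) (q := 2) Nat.prime_two le_rfl (by norm_num) hK
  have hd4 : 4 ≤ d := by
    obtain ⟨k, hk⟩ := heven
    omega
  have hn : Odd (d - 3) := by
    obtain ⟨k, hk⟩ := heven
    exact ⟨k - 2, by omega⟩
  obtain ⟨A, hA, hoA⟩ := exists_SC_odd (q := 2) le_rfl hK (d - 3) hn
  obtain ⟨J, hB, hSP, hoB⟩ := exists_SC_J3 (K := K) (q := 2) (by norm_num)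
  obtain ⟨x, hx⟩ := exists_order_lcm (q := 2) (by norm_num) hK
    (sumFinEquiv (a := d - 3) (b := 3) (d := d) (by omega)) A J hA hB hSP
  refine ⟨x, ?_⟩
  rw [hx, hoA, hoB]
  have hcop : Nat.Coprime (2 ^ (d - 3) + 1) 4 := by
    have h1 : Odd (2 ^ (d - 3) + 1) := by
      have : Even (2 ^ (d - 3)) := (Nat.even_pow' (by omega)).mpr even_two
      exact this.add_one
    have : Nat.Coprime (2 ^ (d - 3) + 1) (2 ^ 2) := Nat.Coprime.pow_right 2 (Nat.coprime_two_right.mpr h1)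
    exact this
  rw [hcop.lcm_eq_mul, mul_comm]

end Cfsg.Agent.Helper94.Pu
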